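import Mathlib
import Cfsg.Agent.Lib.H70.SL2Cent
import Cfsg.Agent.Lib.H46.PSL2Orders
import Cfsg.Agent.Lib.H98.DicksonMax
import Cfsg.Agent.Lib.H98.DicksonSolv
import Cfsg.Agent.Lib.H98.DicksonDih
import Cfsg.Agent.Lib.H98.DicksonIdx

set_option autoImplicit false

/-! Proper subgroups of some `PSL₂(q)` are CA-groups. -/

namespace H41.Ca

open Matrix

/-- centralizers of non-central elements are abelian -/
def CA (G : Type*) [Group G] : Prop :=
  ∀ x : G, x ∉ Subgroup.center G → ∀ c d : G, x * c = c * x → x * d = d * x → c * d = d * c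

theorem CA.iff {G : Type*} [Group G] :
    CA G ↔ ∀ x : G, x ∉ Subgroup.center G → IsMulCommutative (Subgroup.centralizer ({x} : Set G)) := by
  constructor
  · intro h x hx
    refine ⟨⟨fun a b => Subtype.ext ?_⟩⟩
    exact h x hx a b (Subgroup.mem_centralizer_singleton_iff.1 a.2).symm (Subgroup.mem_centralizer_singleton_iff.1 b.2).symm
  · intro h x hx c d hc hd
    have h1 := (h x hx).is_comm.comm ⟨c, Subgroup.mem_centralizer_singleton_iff.2 hc.symm⟩
      ⟨d, Subgroup.mem_centralizer_singleton_iff.2 hd.symm⟩
    exact congrArg Subtype.val h1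

theorem CA.of_equiv {G H : Type*} [Group G] [Group H] (e : G ≃* H) (h : CA G) : CA H := by
  intro x hx c d hc hd
  apply e.symm.injective
  rw [map_mul, map_mul]
  apply h (e.symm x)
  · intro h1
    apply hx
    rw [Subgroup.mem_center_iff] at h1 ⊢
    intro g
    apply e.symm.injective
    rw [map_mul, map_mul]
    exact h1 _
  · rw [← map_mul, ← map_mul, hc]
  · rw [← map_mul, ← map_mul, hd]

theorem CA.of_comm {G : Type*} [Group G] (h : ∀ a b : G, a * b = b * a) : CA G := fun _ _ c d _ _ => h c d

theorem dihedral (k : ℕ) : CA (DihedralGroup k) := by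
  intro x hx c d hc hd
  have hr : ∀ i : ZMod k, i + i = 0 → ∀ y : DihedralGroup k, DihedralGroup.r i * y = y * DihedralGroup.r i := by
    intro i hi y
    cases y with
    | r j => simp [add_comm]
    | sr j =>
      simp only [DihedralGroup.r_mul_sr, DihedralGroup.sr_mul_r, DihedralGroup.sr.injEq]
      linear_combination -hi
  cases x with
  | r i =>
    have hi : i + i ≠ 0 := by
      intro h
      apply hx
      rw [Subgroup.mem_center_iff]
      intro g
      exact (hr i h g).symm
    cases c with
    | r a =>
      cases d with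
      | r b => simp [add_comm]
      | sr b =>
        exfalso
        simp only [DihedralGroup.r_mul_sr, DihedralGroup.sr_mul_r, DihedralGroup.sr.injEq] at hd
        apply hi
        linear_combination -hd
    | sr a =>
      exfalso
      simp only [DihedralGroup.r_mul_sr, DihedralGroup.sr_mul_r, DihedralGroup.sr.injEq] at hc
      apply hi
      linear_combination -hc
  | sr i =>
    cases c with
    | r a =>
      simp only [DihedralGroup.r_mul_sr, DihedralGroup.sr_mul_r, DihedralGroup.sr.injEq] at hc
      exact hr a (by linear_combination hc) d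
    | sr a =>
      cases d with
      | r b =>
        simp only [DihedralGroup.r_mul_sr, DihedralGroup.sr_mul_r, DihedralGroup.sr.injEq] at hd
        exact (hr b (by linear_combination hd) _).symm
      | sr b =>
        simp only [DihedralGroup.sr_mul_sr, DihedralGroup.r.injEq] at hc hd ⊢
        linear_combination hd - hc

section psl

variable {F : Type*} [Field F]

local notation "P2" => Matrix.ProjectiveSpecialLinearGroup (Fin 2) F

/-- in odd characteristic centralizers of elements of order greater than two are abelian -/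
theorem psl_comm (h2 : (2 : F) ≠ 0) {g h k : P2} (hg : g * g ≠ 1) (hh : g * h = h * g) (hk : g * k = k * g) :
    h * k = k * h := by
  obtain ⟨A, rfl⟩ := QuotientGroup.mk_surjective g
  obtain ⟨B, rfl⟩ := QuotientGroup.mk_surjective h
  obtain ⟨C, rfl⟩ := QuotientGroup.mk_surjective k
  have key : ∀ B : SpecialLinearGroup (Fin 2) F, (QuotientGroup.mk A : P2) * QuotientGroup.mk B =
      QuotientGroup.mk B * QuotientGroup.mk A → (A : Matrix (Fin 2) (Fin 2) F) * B = B * A := by
    intro B hB
    rw [← QuotientGroup.mk_mul, ← QuotientGroup.mk_mul, QuotientGroup.eq] at hB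
    rw [Matrix.SpecialLinearGroup.mem_center_iff] at hB
    obtain ⟨r, hr, hs⟩ := hB
    have h3 : (B : Matrix (Fin 2) (Fin 2) F) * A = r • ((A : Matrix (Fin 2) (Fin 2) F) * B) := by
      have h4 : B * A = (A * B) * ((A * B)⁻¹ * (B * A)) := by group
      have h5 := congrArg (fun X : SpecialLinearGroup (Fin 2) F => (X : Matrix (Fin 2) (Fin 2) F)) h4
      rw [Matrix.SpecialLinearGroup.coe_mul, Matrix.SpecialLinearGroup.coe_mul (A * B), ← hs,
        Matrix.SpecialLinearGroup.coe_mul] at h5
      rw [h5]
      ext i j
      simp [Matrix.scalar_apply, Matrix.mul_diagonal, mul_comm]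
    have hr2 : r = 1 ∨ r = -1 := by
      have h4 : (r - 1) * (r + 1) = 0 := by
        rw [Fintype.card_fin] at hr
        linear_combination hr
      rcases mul_eq_zero.1 h4 with h5 | h5
      · exact Or.inl (by linear_combination h5)
      · exact Or.inr (by linear_combination h5)
    rcases hr2 with rfl | rfl
    · rw [h3, one_smul]
    · exfalso
      apply hg
      have htr : Matrix.trace (A : Matrix (Fin 2) (Fin 2) F) = 0 := by
        have h6 : (B⁻¹ : SpecialLinearGroup (Fin 2) F).1 * B.1 = 1 := by
          rw [← Matrix.SpecialLinearGroup.coe_mul, inv_mul_cancel]; rfl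
        have h7 : B.1 * (B⁻¹ : SpecialLinearGroup (Fin 2) F).1 = 1 := by
          rw [← Matrix.SpecialLinearGroup.coe_mul, mul_inv_cancel]; rfl
        have h8 : Matrix.trace A.1 = - Matrix.trace A.1 := by
          calc Matrix.trace A.1 = Matrix.trace ((B⁻¹ : SpecialLinearGroup (Fin 2) F).1 * (B.1 * A.1)) := by
                rw [← mul_assoc, h6, one_mul]
            _ = - Matrix.trace ((B⁻¹ : SpecialLinearGroup (Fin 2) F).1 * (A.1 * B.1)) := by
                rw [h3]; simp
            _ = - Matrix.trace A.1 := by
                rw [Matrix.trace_mul_comm, mul_assoc, h7, mul_one]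
        have h9 : 2 * Matrix.trace A.1 = 0 := by linear_combination h8
        exact (mul_eq_zero.1 h9).resolve_left h2
      rw [← QuotientGroup.mk_mul, QuotientGroup.eq_one_iff, Matrix.SpecialLinearGroup.mem_center_iff]
      refine ⟨-1, by simp, ?_⟩
      have hd := A.2
      rw [Matrix.det_fin_two] at hd
      rw [Matrix.trace_fin_two] at htr
      ext i j
      fin_cases i <;> fin_cases j <;>
        simp [Matrix.mul_apply, Fin.sum_univ_two, Matrix.scalar_apply]
      · linear_combination hd - A.1 0 0 * htr
      · linear_combination -A.1 0 1 * htr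
      · linear_combination -A.1 1 0 * htr
      · linear_combination hd - A.1 1 1 * htr
  have hA : ¬ (A.1 0 1 = 0 ∧ A.1 1 0 = 0 ∧ A.1 0 0 = A.1 1 1) := by
    rintro ⟨h01, h10, h00⟩
    apply hg
    have h3 : (QuotientGroup.mk A : P2) = 1 := by
      rw [QuotientGroup.eq_one_iff, Matrix.SpecialLinearGroup.mem_center_iff]
      have hd := A.2
      rw [Matrix.det_fin_two, h01, h10, ← h00] at hd
      refine ⟨A.1 0 0, by rw [Fintype.card_fin]; linear_combination hd, ?_⟩
      ext i j
      fin_cases i <;> fin_cases j <;> simp [Matrix.scalar_apply, h01, h10, ← h00]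
    rw [h3, mul_one]
  have h4 := H70.SL2Cent.comm_of_comm hA (key B hh) (key C hk)
  rw [← QuotientGroup.mk_mul, ← QuotientGroup.mk_mul]
  congr 1
  exact Subtype.ext h4

end psl

end H41.Ca
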