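import Mathlib
import Cfsg.Agent.Lib.H41.CaA
import Cfsg.Agent.Lib.H98.DicksonPSL

set_option autoImplicit false

/-! Proper subgroups of some `PSL₂(q)` are CA-groups (piece O2 of S4369). -/

namespace H41.Ca

open Matrix
open scoped commutatorElement

section num

theorem num8 {q : ℕ} (h : (q.Prime ∧ 5 < q ∧ ¬ 16 ∣ q ^ 2 - 1) ∨ (∃ p : ℕ, p.Prime ∧ p ≠ 2 ∧ (q = 3 ^ p ∨ q = 5 ^ p))) :
    (q % 8 = 3 ∨ q % 8 = 5) ∧ 5 < q := by
  rcases h with ⟨hq, h5, h16⟩ | ⟨p, hp, hp2, h⟩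
  · refine ⟨?_, h5⟩
    have hodd : q % 2 = 1 := by
      rcases hq.eq_two_or_odd with h | h
      · omega
      · exact h
    have h1 : q % 8 ≠ 1 := by
      intro h
      apply h16
      obtain ⟨k, hk⟩ : ∃ k, q = 8 * k + 1 := ⟨q / 8, by omega⟩
      refine ⟨4 * k ^ 2 + k, ?_⟩
      rw [hk]
      have : (8 * k + 1) ^ 2 = 16 * (4 * k ^ 2 + k) + 1 := by ring
      omega
    have h7 : q % 8 ≠ 7 := by
      intro h
      apply h16
      obtain ⟨k, hk⟩ : ∃ k, q = 8 * k + 7 := ⟨q / 8, by omega⟩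
      refine ⟨4 * k ^ 2 + 7 * k + 3, ?_⟩
      rw [hk]
      have : (8 * k + 7) ^ 2 = 16 * (4 * k ^ 2 + 7 * k + 3) + 1 := by ring
      omega
    omega
  · have hodd : p % 2 = 1 := by
      rcases hp.eq_two_or_odd with h | h
      · exact absurd h hp2
      · exact h
    obtain ⟨k, hk⟩ : ∃ k, p = 2 * k + 1 := ⟨p / 2, by omega⟩
    have hk1 : 1 ≤ k := by have := hp.two_le; omega
    obtain ⟨j, rfl⟩ : ∃ j, k = j + 1 := ⟨k - 1, by omega⟩
    have e9 : (9 ^ (j + 1)) % 8 = 1 := by rw [Nat.pow_mod]; norm_num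
    have e25 : (25 ^ (j + 1)) % 8 = 1 := by rw [Nat.pow_mod]; norm_num
    have g9 : 9 ≤ 9 ^ (j + 1) := by
      calc 9 = 9 ^ 1 := by norm_num
        _ ≤ 9 ^ (j + 1) := Nat.pow_le_pow_right (by norm_num) (by omega)
    have g25 : 25 ≤ 25 ^ (j + 1) := by
      calc 25 = 25 ^ 1 := by norm_num
        _ ≤ 25 ^ (j + 1) := Nat.pow_le_pow_right (by norm_num) (by omega)
    rcases h with h | h
    · have h2 : q = 9 ^ (j + 1) * 3 := by rw [h, hk, pow_succ, pow_mul]; norm_num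
      omega
    · have h2 : q = 25 ^ (j + 1) * 5 := by rw [h, hk, pow_succ, pow_mul]; norm_num
      omega

theorem numK {q k m : ℕ} (h : (q.Prime ∧ 5 < q ∧ ¬ 16 ∣ q ^ 2 - 1) ∨ (∃ p : ℕ, p.Prime ∧ p ≠ 2 ∧ (q = 3 ^ p ∨ q = 5 ^ p)))
    (hm : 2 ≤ m) (hk : k ^ m = q) : k = 3 ∨ k = 5 := by
  have key : ∀ p r : ℕ, p.Prime → r.Prime → k ^ m = r ^ p → k = r := by
    intro p r hp hr h
    have h1 : k ∣ r ^ p := by rw [← h]; exact dvd_pow_self k (by omega)
    obtain ⟨a, -, ha⟩ := (Nat.dvd_prime_pow hr).1 h1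
    rw [ha, ← pow_mul] at h
    have h2 : a * m = p := Nat.pow_right_injective hr.two_le h
    have h3 : m ∣ p := ⟨a, by rw [← h2, mul_comm]⟩
    rcases (Nat.dvd_prime hp).1 h3 with h4 | h4
    · omega
    · rw [h4] at h2
      have h5 : a = 1 := by
        have := hp.pos
        exact Nat.eq_of_mul_eq_mul_right this (by rw [h2, one_mul])
      rw [ha, h5, pow_one]
  rcases h with ⟨hq, h5, -⟩ | ⟨p, hp, -, h | h⟩
  · exfalso
    rw [← hk] at hq
    exact Nat.Prime.not_prime_pow hm hq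
  · left; exact key p 3 hp Nat.prime_three (by rw [hk, h])
  · right; exact key p 5 hp Nat.prime_five (by rw [hk, h])

theorem num_not8 {q : ℕ} (h8 : q % 8 = 3 ∨ q % 8 = 5) : ¬ 8 ∣ (q + 1) * (q * ((q - 1) / 2)) := by
  rcases h8 with h | h
  · obtain ⟨k, hk⟩ : ∃ k, q = 8 * k + 3 := ⟨q / 8, by omega⟩
    have e1 : (q - 1) / 2 = 4 * k + 1 := by omega
    rw [e1, hk]
    rintro ⟨c, hc⟩
    have h2 : (8 * k + 3 + 1) * ((8 * k + 3) * (4 * k + 1)) = 8 * (32 * k ^ 3 + 36 * k ^ 2 + 13 * k + 1) + 4 := by ring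
    omega
  · obtain ⟨k, hk⟩ : ∃ k, q = 8 * k + 5 := ⟨q / 8, by omega⟩
    have e1 : (q - 1) / 2 = 4 * k + 2 := by omega
    rw [e1, hk]
    rintro ⟨c, hc⟩
    have h2 : (8 * k + 5 + 1) * ((8 * k + 5) * (4 * k + 2)) = 8 * (32 * k ^ 3 + 60 * k ^ 2 + 37 * k + 7) + 4 := by ring
    omega

end num

/-- commuting involutions criterion via element orders -/
theorem of_orders {G : Type*} [Group G] {H : Subgroup G} (ho : ∀ c ∈ H, orderOf c ∣ 2 ∨ orderOf c ∣ 3 ∨ orderOf c ∣ 5)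
    {x a b : G} (hx : x ∈ H) (ha : a ∈ H) (hb : b ∈ H) (hxo : orderOf x = 2) (hxa : Commute x a) (hxb : Commute x b) :
    Commute a b := by
  have key : ∀ y ∈ H, Commute x y → y * y = 1 := by
    intro y hy hxy
    have hodd : orderOf y ∣ 2 ∨ Nat.Coprime 2 (orderOf y) := by
      rcases ho y hy with h | h | h
      · exact Or.inl h
      · exact Or.inr (Nat.Coprime.coprime_dvd_right h (by norm_num))
      · exact Or.inr (Nat.Coprime.coprime_dvd_right h (by norm_num))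
    rcases hodd with h | h
    · rw [← pow_two]; exact orderOf_dvd_iff_pow_eq_one.1 h
    · have h1 := hxy.orderOf_mul_eq_mul_orderOf_of_coprime (by rw [hxo]; exact h)
      rw [hxo] at h1
      rcases ho (x * y) (H.mul_mem hx hy) with h2 | h2 | h2
      · rw [h1] at h2
        have h3 : orderOf y ∣ 1 := Nat.dvd_of_mul_dvd_mul_left (by norm_num : 0 < 2) (by rwa [mul_one])
        rw [Nat.dvd_one, orderOf_eq_one_iff] at h3
        rw [h3, mul_one]
      · rw [h1] at h2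
        exact absurd ((Dvd.intro _ rfl : 2 ∣ 2 * orderOf y).trans h2) (by norm_num)
      · rw [h1] at h2
        exact absurd ((Dvd.intro _ rfl : 2 ∣ 2 * orderOf y).trans h2) (by norm_num)
  have h1 := key a ha hxa
  have h2 := key b hb hxb
  have h3 := key (a * b) (H.mul_mem ha hb) (hxa.mul_right hxb)
  have i1 : a⁻¹ = a := inv_eq_of_mul_eq_one_left h1
  have i2 : b⁻¹ = b := inv_eq_of_mul_eq_one_left h2
  have i3 : (a * b)⁻¹ = a * b := inv_eq_of_mul_eq_one_left h3
  change a * b = b * a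
  rw [← i3, _root_.mul_inv_rev, i1, i2]

theorem conv2 {F : Type} [Field F] [Fintype F]
    (hF : ((Fintype.card F).Prime ∧ 5 < Fintype.card F ∧ ¬ 16 ∣ Fintype.card F ^ 2 - 1) ∨
      (∃ p : ℕ, p.Prime ∧ p ≠ 2 ∧ (Fintype.card F = 3 ^ p ∨ Fintype.card F = 5 ^ p)))
    (H : Subgroup (Matrix.ProjectiveSpecialLinearGroup (Fin 2) F)) (hH : H ≠ ⊤) :
    ∀ x ∈ H, ∀ a ∈ H, ∀ b ∈ H, Commute x a → Commute x b → ¬ Commute a b → ∀ c ∈ H, Commute x c := by
  classical
  intro x hx a ha b hb hxa hxb hab c hc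
  rw [← Nat.card_eq_fintype_card] at hF
  obtain ⟨h8, h5⟩ := num8 hF
  obtain ⟨p, hpc⟩ := CharP.exists F
  have hp : Fact p.Prime := ⟨CharP.char_is_prime F p⟩
  obtain ⟨n, hn, hcard⟩ := H98.DicksonIdx.char_dvd (F := F) p
  have hodd : Odd (Nat.card F) := by rw [Nat.odd_iff]; omega
  have h2 : (2 : F) ≠ 0 := H98.DicksonDih.two_ne_zero_of_odd hodd
  have hp2 : p ≠ 2 := by
    rintro rfl
    rw [hcard] at hodd
    exact (Nat.not_even_iff_odd.2 hodd) ((Nat.even_pow).2 ⟨even_two, by omega⟩)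
  have hpodd : Odd p := hp.out.odd_of_ne_two hp2
  have hgcd := H98.DicksonIdx.gcd_odd hodd
  have hpF : p ∣ Nat.card F := by rw [hcard]; exact dvd_pow_self p (by omega)
  -- `x` is an involution
  by_cases hx1 : x = 1
  · rw [hx1]; exact Commute.one_left c
  have hxx : x * x = 1 := by
    by_contra hne
    exact hab (psl_comm h2 hne hxa hxb)
  have hxo : orderOf x = 2 := orderOf_eq_prime (by rw [pow_two]; exact hxx) hx1
  have h8G : ¬ 8 ∣ Nat.card (Matrix.ProjectiveSpecialLinearGroup (Fin 2) F) := by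
    rw [H98.DicksonIdx.card_G, hgcd]
    exact num_not8 h8
  have h8H : ¬ 8 ∣ Nat.card H := fun h => h8G (h.trans (Subgroup.card_subgroup_dvd_card H))
  rcases H98.DicksonPSL.psl_list p H hH with ⟨hcyc, -⟩ | ⟨k, hk2, -, ⟨e⟩⟩ | ⟨-, hexp, -⟩ | ⟨-, -, e⟩ | ⟨-, -, e⟩ | ⟨-, -, e⟩ |
    ⟨K, m, hm, hK, e⟩ | ⟨K, m, hm, hK, ho, ⟨e⟩⟩
  · exfalso
    letI := hcyc.commGroup
    apply hab
    exact congrArg Subtype.val (mul_comm (⟨a, ha⟩ : H) ⟨b, hb⟩)
  · -- dihedral
    have hca : CA H := (dihedral k).of_equiv e.symm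
    by_cases hxc : (⟨x, hx⟩ : H) ∈ Subgroup.center H
    · have h1 := Subgroup.mem_center_iff.1 hxc ⟨c, hc⟩
      exact (congrArg Subtype.val h1).symm
    · exfalso
      apply hab
      exact congrArg Subtype.val (hca ⟨x, hx⟩ hxc ⟨a, ha⟩ ⟨b, hb⟩ (Subtype.ext hxa) (Subtype.ext hxb))
  · -- Borel
    exfalso
    have h1 := hexp ⁅(⟨a, ha⟩ : H), ⟨b, hb⟩⁆
      (Subgroup.commutator_mem_commutator (Subgroup.mem_top _) (Subgroup.mem_top _))
    set u : Matrix.ProjectiveSpecialLinearGroup (Fin 2) F := ⁅a, b⁆ with hu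
    have hu1 : u ^ p = 1 := congrArg Subtype.val h1
    have hu2 : u ≠ 1 := fun h => hab (commutatorElement_eq_one_iff_commute.1 h)
    have huo : orderOf u = p := orderOf_eq_prime hu1 hu2
    have hxu : Commute x u := by
      rw [hu, commutatorElement_def]
      exact ((hxa.mul_right hxb).mul_right hxa.inv_right).mul_right hxb.inv_right
    have hord : orderOf (x * u) = 2 * p := by
      rw [hxu.orderOf_mul_eq_mul_orderOf_of_coprime, hxo, huo]
      rw [hxo, huo]
      exact (Nat.coprime_primes Nat.prime_two hp.out).2 hp2.symm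
    have hpp := hp.out.two_le
    rcases H46.PSL2Orders.order_trichotomy p (x * u) with h | h | h
    · rw [hord] at h
      have := Nat.le_of_dvd hp.out.pos h
      omega
    · rw [hord, hgcd] at h
      have h3 : p ∣ Nat.card F - 1 := ((Dvd.intro_left _ rfl : p ∣ 2 * p).trans h).trans
        (Nat.div_dvd_of_dvd (by rw [Nat.dvd_iff_mod_eq_zero]; rw [Nat.odd_iff] at hodd; omega))
      have h4 : p ∣ Nat.card F - (Nat.card F - 1) := Nat.dvd_sub hpF h3
      rw [show Nat.card F - (Nat.card F - 1) = 1 by omega, Nat.dvd_one] at h4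
      omega
    · rw [hord, hgcd] at h
      have h3 : p ∣ Nat.card F + 1 := ((Dvd.intro_left _ rfl : p ∣ 2 * p).trans h).trans
        (Nat.div_dvd_of_dvd (by rw [Nat.dvd_iff_mod_eq_zero]; rw [Nat.odd_iff] at hodd; omega))
      have h4 : p ∣ Nat.card F + 1 - Nat.card F := Nat.dvd_sub h3 hpF
      rw [show Nat.card F + 1 - Nat.card F = 1 by omega, Nat.dvd_one] at h4
      omega
  · exact absurd (of_orders (fun c hc => by
      rcases H98.DicksonMax.order_A4 e hc with h | h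
      · exact Or.inl h
      · exact Or.inr (Or.inl h)) hx ha hb hxo hxa hxb) hab
  · exfalso
    apply h8H
    rw [H98.DicksonIdx.card_S4 e]
    norm_num
  · exact absurd (of_orders (fun c hc => H98.DicksonMax.order_A5 e hc) hx ha hb hxo hxa hxb) hab
  · exfalso
    apply h8H
    rw [H98.DicksonIdx.card_pgl' K e]
    rcases numK hF hm hK with h | h
    · rw [h]; norm_num
    · rw [h]; norm_num
  · refine absurd (of_orders (fun c hc => ?_) hx ha hb hxo hxa hxb) hab
    obtain ⟨p', hpc'⟩ := CharP.exists K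
    have hp' : Fact p'.Prime := ⟨CharP.char_is_prime K p'⟩
    obtain ⟨n', hn', hcard'⟩ := H98.DicksonIdx.char_dvd (F := K) p'
    have hpK : p' ∣ Nat.card K := by rw [hcard']; exact dvd_pow_self p' (by omega)
    have h1 : orderOf (e ⟨c, hc⟩) = orderOf c := by
      rw [MulEquiv.orderOf_eq, Subgroup.orderOf_mk]
    have h3 := H46.PSL2Orders.order_trichotomy p' (e ⟨c, hc⟩)
    rw [h1] at h3
    rcases numK hF hm hK with h | h
    · rw [h] at h3 hpK
      have h4 : p' = 3 := (Nat.prime_dvd_prime_iff_eq hp'.out Nat.prime_three).1 hpK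
      rw [h4] at h3
      norm_num at h3
      rcases h3 with h3 | h3 | h3
      · exact Or.inr (Or.inl h3)
      · left; rw [h3]; simp
      · exact Or.inl h3
    · rw [h] at h3 hpK
      have h4 : p' = 5 := (Nat.prime_dvd_prime_iff_eq hp'.out Nat.prime_five).1 hpK
      rw [h4] at h3
      norm_num at h3
      rcases h3 with h3 | h3 | h3
      · exact Or.inr (Or.inr h3)
      · exact Or.inl h3
      · exact Or.inr (Or.inl h3)

end H41.Ca
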