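import Mathlib

/-! Facts about a finite field `K` with `q ^ 2` elements and the map `x ↦ x ^ q`. -/

set_option autoImplicit false

namespace H41.FieldQ

variable {K : Type*} [Field K] [Fintype K] {q : ℕ}

theorem two_le_q (hK : Fintype.card K = q ^ 2) : 2 ≤ q := by
  have h1 : 1 < Fintype.card K := Fintype.one_lt_card
  rw [hK] at h1
  by_contra h
  push Not at h
  interval_cases q <;> simp at h1

theorem pow_q_sq (hK : Fintype.card K = q ^ 2) (x : K) : (x ^ q) ^ q = x := by
  rw [← pow_mul, ← pow_two, ← hK, FiniteField.pow_card]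

/-- `x ↦ x ^ q` is a ring homomorphism. -/
theorem exists_frob (hK : Fintype.card K = q ^ 2) : ∃ σ : K →+* K, ∀ x, σ x = x ^ q := by
  obtain ⟨p, hp⟩ := CharP.exists K
  have : Fact p.Prime := ⟨CharP.char_is_prime K p⟩
  obtain ⟨n, hprime, hn⟩ := FiniteField.card K p
  have hdvd : q ∣ p ^ (n : ℕ) := by
    rw [← hn, hK]; exact ⟨q, pow_two q⟩
  obtain ⟨k, _, hk⟩ := (Nat.dvd_prime_pow hprime).mp hdvd
  refine ⟨iterateFrobenius K p k, fun x => ?_⟩
  rw [iterateFrobenius_def, hk]

theorem card_units (hK : Fintype.card K = q ^ 2) : Nat.card Kˣ = (q - 1) * (q + 1) := by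
  classical
  have h2 := two_le_q hK
  rw [Nat.card_eq_fintype_card, Fintype.card_units, hK]
  obtain ⟨r, rfl⟩ : ∃ r, q = r + 1 := ⟨q - 1, by omega⟩
  have : (r + 1) ^ 2 = r * (r + 1 + 1) + 1 := by ring
  rw [this]; simp

/-- the norm is surjective onto the fixed field -/
theorem norm_surj (hK : Fintype.card K = q ^ 2) (a : K) (ha : a ^ q = a) : ∃ b : K, b ^ (q + 1) = a := by
  classical
  have h2 := two_le_q hK
  by_cases h0 : a = 0
  · exact ⟨0, by rw [h0, zero_pow (by omega)]⟩
  obtain ⟨g, hg⟩ := IsCyclic.exists_generator (α := Kˣ)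
  obtain ⟨k, hk⟩ : ∃ k : ℕ, g ^ k = Units.mk0 a h0 := by
    have := hg (Units.mk0 a h0)
    rwa [← mem_powers_iff_mem_zpowers, Submonoid.mem_powers_iff] at this
  have hord : orderOf g = (q - 1) * (q + 1) := by
    rw [orderOf_eq_card_of_forall_mem_zpowers hg, card_units hK]
  have hu : (Units.mk0 a h0) ^ (q - 1) = 1 := by
    apply Units.ext
    rw [Units.val_pow_eq_pow_val, Units.val_mk0, Units.val_one]
    have h3 : a ^ (q - 1) * a = 1 * a := by
      rw [← pow_succ, Nat.sub_add_cancel (by omega), ha, one_mul]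
    exact mul_right_cancel₀ h0 h3
  rw [← hk, ← pow_mul, ← orderOf_dvd_iff_pow_eq_one, hord, mul_comm k] at hu
  have hdvd : (q + 1) ∣ k := Nat.dvd_of_mul_dvd_mul_left (by omega) hu
  obtain ⟨l, rfl⟩ := hdvd
  refine ⟨((g ^ l : Kˣ) : K), ?_⟩
  rw [← Units.val_pow_eq_pow_val, ← pow_mul, mul_comm l, hk, Units.val_mk0]

/-- some element is not fixed by `x ↦ x ^ q` -/
theorem exists_not_fixed (hK : Fintype.card K = q ^ 2) : ∃ b : K, b ^ q ≠ b := by
  classical
  have h2 := two_le_q hK
  obtain ⟨g, hg⟩ := IsCyclic.exists_generator (α := Kˣ)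
  have hord : orderOf g = (q - 1) * (q + 1) := by
    rw [orderOf_eq_card_of_forall_mem_zpowers hg, card_units hK]
  refine ⟨(g : K), fun h => ?_⟩
  have h1 : g ^ (q - 1) = 1 := by
    apply Units.ext
    rw [Units.val_pow_eq_pow_val, Units.val_one]
    have h3 : (g : K) ^ (q - 1) * g = 1 * g := by
      rw [← pow_succ, Nat.sub_add_cancel (by omega), h, one_mul]
    exact mul_right_cancel₀ g.ne_zero h3
  rw [← orderOf_dvd_iff_pow_eq_one, hord] at h1
  have := Nat.le_of_dvd (by omega) h1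
  have h4 : (q - 1) * 2 ≤ (q - 1) * (q + 1) := Nat.mul_le_mul_left _ (by omega)
  omega

/-- some element has non-zero trace -/
theorem exists_trace_ne_zero (hK : Fintype.card K = q ^ 2) : ∃ b : K, b + b ^ q ≠ 0 := by
  by_contra hcon
  push Not at hcon
  obtain ⟨b, hb⟩ := exists_not_fixed hK
  have h1 := hcon 1
  rw [one_pow] at h1
  apply hb
  have h3 := hcon b
  have h4 : b ^ q = - b := (neg_eq_of_add_eq_zero_right h3).symm
  rw [h4]
  have h5 : b + b = 0 := by
    have : b + b = b * (1 + 1) := by ring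
    rw [this, h1, mul_zero]
  exact neg_eq_of_add_eq_zero_right h5

/-- the trace is surjective onto the fixed field -/
theorem trace_surj (hK : Fintype.card K = q ^ 2) (a : K) (ha : a ^ q = a) : ∃ b : K, b + b ^ q = a := by
  obtain ⟨σ, hσ⟩ := exists_frob hK
  obtain ⟨c, hc⟩ := exists_trace_ne_zero hK
  refine ⟨a * c / (c + c ^ q), ?_⟩
  have h1 : (a * c / (c + c ^ q)) ^ q = a * c ^ q / (c + c ^ q) := by
    rw [← hσ, map_div₀, map_mul, map_add, ← hσ c, hσ a, ha, hσ (σ c), hσ c, pow_q_sq hK, add_comm c]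
  rw [h1]
  field_simp

end H41.FieldQ
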