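import Mathlib
import Cfsg.Agent.Lib.H41.Sesq
import Cfsg.Agent.Lib.H41.FieldQ

/-! Nondegenerate hermitian forms over a field with `q ^ 2` elements have orthonormal bases. -/

set_option autoImplicit false

namespace H41.Herm

open Module H41.Sesq

variable {K : Type*} [Field K] [Fintype K] {q : ℕ} {σ : K →+* K}

theorem exists_norm_one (hK : Fintype.card K = q ^ 2) (hσ : ∀ x, σ x = x ^ q)
    {V : Type*} [AddCommGroup V] [Module K V]
    (B : V →ₗ[K] V →ₛₗ[σ] K) (hB : ∀ x y, B y x = σ (B x y)) (x : V) (hx : ∃ y, B x y ≠ 0) :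
    ∃ z, B z z = 1 := by
  have h1 : ∃ z, B z z ≠ 0 := by
    by_contra hcon
    push Not at hcon
    obtain ⟨y, hy⟩ := hx
    have key : ∀ u v : V, B u v + B v u = 0 := by
      intro u v
      have h := hcon (u + v)
      simp only [map_add, LinearMap.add_apply, hcon u, hcon v, zero_add, add_zero] at h
      rw [add_comm]; exact h
    obtain ⟨c, hc⟩ := FieldQ.exists_not_fixed hK
    have h2 := key (c • x) y
    rw [map_smul, LinearMap.smul_apply, LinearMap.map_smulₛₗ, smul_eq_mul, smul_eq_mul, hσ] at h2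
    have h3 := key x y
    have h4 : B y x = - B x y := (neg_eq_of_add_eq_zero_right h3).symm
    rw [h4] at h2
    have h5 : (c - c ^ q) * B x y = 0 := by
      rw [sub_mul]; rw [mul_neg] at h2; rw [sub_eq_add_neg]; exact h2
    rcases mul_eq_zero.mp h5 with h6 | h6
    · exact hc (sub_eq_zero.mp h6).symm
    · exact hy h6
  obtain ⟨z, hz⟩ := h1
  have hfix : (B z z)⁻¹ ^ q = (B z z)⁻¹ := by
    have : (B z z) ^ q = B z z := by rw [← hσ, ← hB z z]
    rw [inv_pow, this]
  obtain ⟨b, hb⟩ := FieldQ.norm_surj hK _ hfix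
  refine ⟨b • z, ?_⟩
  rw [LinearMap.map_smulₛₗ (B (b • z)), LinearMap.map_smul B, LinearMap.smul_apply, smul_eq_mul, smul_eq_mul,
    hσ, ← mul_assoc, ← pow_succ, hb, inv_mul_cancel₀ hz]

theorem exists_orthonormal (hK : Fintype.card K = q ^ 2) (hσ : ∀ x, σ x = x ^ q) (n : ℕ) :
    ∀ {V : Type _} [AddCommGroup V] [Module K V] [FiniteDimensional K V]
    (B : V →ₗ[K] V →ₛₗ[σ] K) (_ : ∀ x y, B y x = σ (B x y)) (_ : ∀ x, (∀ y, B x y = 0) → x = 0)
    (_ : finrank K V = n),
    ∃ e : Fin n → V, ∀ i j, B (e i) (e j) = if i = j then 1 else 0 := by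
  induction n with
  | zero =>
    intro V _ _ _ B _ _ _
    exact ⟨fun i => i.elim0, fun i => i.elim0⟩
  | succ n ih =>
    intro V _ _ _ B hB hnd hn
    obtain ⟨x, hx⟩ := (Module.finrank_pos_iff_exists_ne_zero (R := K) (M := V)).mp (by omega)
    have hex : ∃ y, B x y ≠ 0 := by
      by_contra hcon
      push Not at hcon
      exact hx (hnd x hcon)
    obtain ⟨v, hv⟩ := exists_norm_one hK hσ B hB x hex
    let e0 : Fin 1 → V := fun _ => v
    let G0 : Matrix (Fin 1) (Fin 1) K := 1
    have hdet : IsUnit G0.det := by simp [G0]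
    have hGram : ∀ i j, B (e0 i) (e0 j) = G0 i j := by
      intro i j
      fin_cases i; fin_cases j; simp [e0, G0, hv]
    have hfin := finrank_orth B e0 G0 hdet hGram
    rw [Fintype.card_fin, hn] at hfin
    obtain ⟨e, he⟩ := ih (res B (orth B e0)) (fun a b => hB a.1 b.1)
      (res_orth_nondeg B e0 G0 hdet hGram hnd) (by omega)
    have he' : ∀ i j, B (e i).1 (e j).1 = if i = j then 1 else 0 := he
    have hv1 : ∀ i, B (e i).1 v = 0 := fun i => (e i).2 0
    have hv2 : ∀ i, B v (e i).1 = 0 := fun i => by rw [hB, hv1, map_zero]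
    refine ⟨Fin.cons v fun i => (e i).1, ?_⟩
    intro i j
    refine Fin.cases ?_ (fun i => ?_) i <;> refine Fin.cases ?_ (fun j => ?_) j <;>
      simp [hv, hv1, hv2, he', (Fin.succ_ne_zero _).symm]

end H41.Herm
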