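import Cfsg.Agent.Lib.H44.LSHeis

/-!
Dimensions of weight spaces by traces; characters of finite fields.
-/

set_option autoImplicit false

namespace H41.Td1

open H44.LSWeights

section rep

variable {A : Type*} [CommGroup A] {V : Type*} [AddCommGroup V] [Module ℂ V]

theorem proj_isProj [Fintype A] (τ : A →* Module.End ℂ V) (χ : A →* ℂˣ) :
    LinearMap.IsProj (wt τ χ) (proj τ χ) :=
  ⟨proj_mem τ χ, fun _ hv => proj_of_mem (by
    rw [Nat.cast_ne_zero]; exact Fintype.card_ne_zero) τ χ hv⟩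

/-- dimension of a weight space -/
theorem card_mul_finrank_wt [Fintype A] [FiniteDimensional ℂ V] (τ : A →* Module.End ℂ V)
    (χ : A →* ℂˣ) : (Fintype.card A : ℂ) * (Module.finrank ℂ (wt τ χ) : ℂ) =
      ∑ a, (((χ a)⁻¹ : ℂˣ) : ℂ) * LinearMap.trace ℂ V (τ a) := by
  have h1 := (proj_isProj τ χ).trace
  have hA : (Fintype.card A : ℂ) ≠ 0 := by
    rw [Nat.cast_ne_zero]; exact Fintype.card_ne_zero
  rw [← h1]
  unfold proj
  rw [map_smul, smul_eq_mul, mul_inv_cancel_left₀ hA, map_sum]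
  refine Finset.sum_congr rfl fun a _ => ?_
  rw [map_smul, smul_eq_mul]

/-- a trace function which is constant off the identity -/
theorem sum_char_const [Fintype A] [DecidableEq A] (χ : A →* ℂˣ) (t : A → ℂ) (d θ : ℂ) (h1 : t 1 = d)
    (h2 : ∀ a, a ≠ 1 → t a = θ) : ∑ a, (((χ a)⁻¹ : ℂˣ) : ℂ) * t a =
      d + (if χ = 1 then (Fintype.card A : ℂ) - 1 else -1) * θ := by
  have hs : ∑ a, (((χ a)⁻¹ : ℂˣ) : ℂ) = if χ = 1 then (Fintype.card A : ℂ) else 0 := by
    split_ifs with h
    · subst h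
      simp
    · have := sum_char (K := ℂ) χ⁻¹ (by
        intro h'
        apply h
        refine MonoidHom.ext fun a => ?_
        have h2 := DFunLike.congr_fun h' a
        rw [MonoidHom.inv_apply, MonoidHom.one_apply, inv_eq_one] at h2
        rw [h2, MonoidHom.one_apply])
      simpa using this
  have h3 : ∀ a, (((χ a)⁻¹ : ℂˣ) : ℂ) * t a = (((χ a)⁻¹ : ℂˣ) : ℂ) * θ + (if a = 1 then d - θ else 0) := by
    intro a
    split_ifs with h
    · subst h; rw [h1]; simp
    · rw [h2 a h]; ring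
  rw [Finset.sum_congr rfl fun a _ => h3 a, Finset.sum_add_distrib, ← Finset.sum_mul, hs,
    Finset.sum_ite_eq' Finset.univ (1 : A), if_pos (Finset.mem_univ _)]
  split_ifs <;> ring

instance enough (A : Type*) [CommGroup A] [Finite A] :
    HasEnoughRootsOfUnity ℂ (Monoid.exponent A) := by
  have h : NeZero (Monoid.exponent A) := inferInstance
  have : NeZero ((Monoid.exponent A : ℕ) : ℂ) := ⟨by
    rw [Nat.cast_ne_zero]; exact h.out⟩
  infer_instance

theorem exists_wt [Finite A] [Nontrivial V] (τ : A →* Module.End ℂ V) : ∃ χ : A →* ℂˣ, wt τ χ ≠ ⊥ := by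
  by_cases h : ∃ b, τ b ≠ 1
  · obtain ⟨b, hb⟩ := h
    obtain ⟨χ, h1, _⟩ := exists_weight (K := ℂ) (by
      rw [Nat.cast_ne_zero]; exact Nat.card_pos.ne') τ b hb
    exact ⟨χ, h1⟩
  · push Not at h
    refine ⟨1, ?_⟩
    rw [Submodule.ne_bot_iff]
    obtain ⟨v, hv⟩ := exists_ne (0 : V)
    exact ⟨v, fun a => by rw [h a]; simp, hv⟩

theorem finite_chars (A : Type*) [CommGroup A] [Finite A] : Finite (A →* ℂˣ) :=
  Nat.finite_of_card_ne_zero (by
    rw [CommGroup.card_monoidHom_of_hasEnoughRootsOfUnity A ℂ]; exact Nat.card_pos.ne')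

end rep

section dual

variable {K : Type*} [Field K] {F : Type*} [AddCommGroup F]

/-- twisting a character -/
noncomputable def tw (ψ : Multiplicative F →* ℂˣ) (T : K →+ F) (c : K) : Multiplicative K →* ℂˣ where
  toFun x := ψ (Multiplicative.ofAdd (T (c * Multiplicative.toAdd x)))
  map_one' := by simp
  map_mul' x y := by
    rw [toAdd_mul, mul_add, map_add, ofAdd_add, map_mul]

theorem tw_apply (ψ : Multiplicative F →* ℂˣ) (T : K →+ F) (c x : K) :
    tw ψ T c (Multiplicative.ofAdd x) = ψ (Multiplicative.ofAdd (T (c * x))) := rfl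

theorem tw_inj {ψ : Multiplicative F →* ℂˣ} (hψ : ψ ≠ 1) {T : K →+ F} (hT : Function.Surjective T) :
    Function.Injective (tw ψ T) := by
  intro c d h
  by_contra hne
  apply hψ
  refine MonoidHom.ext fun y => ?_
  obtain ⟨x, hx⟩ := hT (Multiplicative.toAdd y)
  have h1 := DFunLike.congr_fun h (Multiplicative.ofAdd ((c - d)⁻¹ * x))
  rw [tw_apply, tw_apply] at h1
  have h2 : y = Multiplicative.ofAdd (T (c * ((c - d)⁻¹ * x))) * (Multiplicative.ofAdd (T (d * ((c - d)⁻¹ * x))))⁻¹ := by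
    rw [← ofAdd_neg, ← ofAdd_add, ← map_neg, ← map_add]
    have : c * ((c - d)⁻¹ * x) + -(d * ((c - d)⁻¹ * x)) = x := by
      have : c - d ≠ 0 := sub_ne_zero.2 hne
      field_simp
      ring
    rw [this, hx, ofAdd_toAdd]
  rw [h2, map_mul, map_inv, h1, mul_inv_cancel]
  rfl

theorem tw_surj [Finite K] {ψ : Multiplicative F →* ℂˣ} (hψ : ψ ≠ 1) {T : K →+ F} (hT : Function.Surjective T)
    (χ : Multiplicative K →* ℂˣ) : ∃ c, tw ψ T c = χ := by
  have hf := finite_chars (Multiplicative K)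
  have hc : Nat.card K = Nat.card (Multiplicative K →* ℂˣ) := by
    rw [CommGroup.card_monoidHom_of_hasEnoughRootsOfUnity (Multiplicative K) ℂ]; rfl
  have hb := (Nat.bijective_iff_injective_and_card (tw ψ T)).2 ⟨tw_inj hψ hT, hc⟩
  exact hb.2 χ

theorem exists_char (F : Type*) [Field F] [Finite F] : ∃ ψ : Multiplicative F →* ℂˣ, ψ ≠ 1 := by
  obtain ⟨φ, hφ⟩ := CommGroup.exists_apply_ne_one_of_hasEnoughRootsOfUnity (Multiplicative F) ℂ
    (a := Multiplicative.ofAdd 1) (by simp)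
  refine ⟨φ, ?_⟩
  rintro rfl
  simp at hφ

end dual

/-! ### the fixed field -/

section field

variable {K : Type*} [Field K]

/-- fixed field -/
abbrev Fx (φ : K →+* K) : Subfield K := φ.eqLocusField (RingHom.id K)

theorem mem_Fx {φ : K →+* K} {x : K} : x ∈ Fx φ ↔ φ x = x := Iff.rfl

variable [Finite K] {φ : K →+* K} {q : ℕ}

theorem finrank_eq (hq : 1 < q) (hK : Nat.card K = q ^ 3) (hF : Nat.card (Fx φ) = q) :
    Module.finrank (Fx φ) K = 3 := by
  have h := Module.natCard_eq_pow_finrank (K := Fx φ) (V := K)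
  rw [hK, hF] at h
  exact (Nat.pow_right_injective hq h).symm

theorem trace_eq (hq : 1 < q) (hK : Nat.card K = q ^ 3) (hF : Nat.card (Fx φ) = q)
    (hφ : ∀ t, φ t = t ^ q) (x : K) :
    ((Algebra.trace (Fx φ) K x : Fx φ) : K) = x + φ x + φ (φ x) := by
  have h := FiniteField.algebraMap_trace_eq_sum_pow (Fx φ) K x
  rw [finrank_eq hq hK hF, hF] at h
  refine h.trans ?_
  rw [Finset.sum_range_succ, Finset.sum_range_succ, Finset.sum_range_one, hφ, hφ, ← pow_mul]
  simp [pow_two]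

theorem norm_eq (hq : 1 < q) (hK : Nat.card K = q ^ 3) (hF : Nat.card (Fx φ) = q)
    (hφ : ∀ t, φ t = t ^ q) (x : K) :
    ((Algebra.norm (Fx φ) x : Fx φ) : K) = x * φ x * φ (φ x) := by
  have h := FiniteField.algebraMap_norm_eq_prod_pow (Fx φ) K x
  rw [finrank_eq hq hK hF, hF] at h
  refine h.trans ?_
  rw [Finset.prod_range_succ, Finset.prod_range_succ, Finset.prod_range_one, hφ, hφ, ← pow_mul]
  simp [pow_two]

/-- the trace -/
noncomputable def Tr (φ : K →+* K) : K →+ Fx φ := (Algebra.trace (Fx φ) K).toAddMonoidHom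

theorem Tr_surj (hq : 1 < q) (hK : Nat.card K = q ^ 3) (hF : Nat.card (Fx φ) = q) :
    Function.Surjective (Tr φ) := by
  have := finrank_eq hq hK hF
  exact Algebra.trace_surjective (Fx φ) K

theorem Tr_eq (hq : 1 < q) (hK : Nat.card K = q ^ 3) (hF : Nat.card (Fx φ) = q)
    (hφ : ∀ t, φ t = t ^ q) (x : K) : (Tr φ x : K) = x + φ x + φ (φ x) := trace_eq hq hK hF hφ x

omit [Finite K] in
theorem Tr_smul (c : Fx φ) (x : K) : Tr φ (c * x) = c * Tr φ x :=
  (Algebra.trace (Fx φ) K).map_smul c x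

theorem norm_surj (c : Fx φ) : ∃ x : K, Algebra.norm (Fx φ) x = c :=
  FiniteField.norm_surjective (Fx φ) K c

end field

end H41.Td1
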