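import Cfsg.Agent.Lib.H41.Td1

/-!
A Chevalley–Warning type argument: the hyperplanes of the eight dimensional module meet the
triality curve.
-/

set_option autoImplicit false

namespace H41.Td2

open H44.LSWeights H41.Td1 Polynomial

variable {K : Type*} [Field K]

theorem sum_pow_top [Fintype K] : ∑ t : K, t ^ (Fintype.card K - 1) = -1 := by
  classical
  have h1 : 1 < Fintype.card K := Fintype.one_lt_card
  rw [← Finset.add_sum_erase _ _ (Finset.mem_univ (0 : K)), zero_pow (by omega), zero_add]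
  have h2 : ∀ t ∈ Finset.univ.erase (0 : K), t ^ (Fintype.card K - 1) = 1 := by
    intro t ht
    exact FiniteField.pow_card_sub_one_eq_one t (Finset.ne_of_mem_erase ht)
  rw [Finset.sum_congr rfl h2, Finset.sum_const, Finset.card_erase_of_mem (Finset.mem_univ _),
    Finset.card_univ, nsmul_eq_mul, mul_one, Nat.cast_sub (by omega), FiniteField.cast_card_eq_zero]
  simp

theorem sum_eval [Fintype K] (R : K[X]) (h : R.natDegree ≤ Fintype.card K - 1) :
    ∑ t : K, R.eval t = - R.coeff (Fintype.card K - 1) := by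
  have h1 : 1 < Fintype.card K := Fintype.one_lt_card
  have h2 : ∀ t : K, R.eval t = ∑ i ∈ Finset.range (Fintype.card K - 1 + 1), R.coeff i * t ^ i := by
    intro t
    exact Polynomial.eval_eq_sum_range' (by omega) t
  rw [Finset.sum_congr rfl fun t _ => h2 t, Finset.sum_comm, Finset.sum_range_succ]
  have h3 : ∀ i ∈ Finset.range (Fintype.card K - 1), ∑ t : K, R.coeff i * t ^ i = 0 := by
    intro i hi
    rw [← Finset.mul_sum, FiniteField.sum_pow_lt_card_sub_one _ i (Finset.mem_range.1 hi), mul_zero]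
  rw [Finset.sum_eq_zero h3, zero_add, ← Finset.mul_sum, sum_pow_top]
  ring

/-- the zero lemma -/
theorem cw [Finite K] {φ : K →+* K} {q : ℕ} (hq : 1 < q) (hK : Nat.card K = q ^ 3)
    (hφ : ∀ t, φ t = t ^ q) (h3 : ∀ t : K, φ (φ (φ t)) = t) (e1 e2 e3 a0 b0 u0 w0 : K)
    (he1 : φ e1 = e1) (he2 : φ e2 = e2) (he3 : φ e3 = e3) (ha0 : φ a0 = a0) (hb0 : φ b0 = b0)
    (h : e3 * b0 ≠ 0) :
    ∃ t : K, a0 + e1 * (u0 * t + φ (u0 * t) + φ (φ (u0 * t))) + e2 * (w0 * (φ t * φ (φ t)) +
      φ (w0 * (φ t * φ (φ t))) + φ (φ (w0 * (φ t * φ (φ t))))) + e3 * b0 * (t * φ t * φ (φ t)) = 0 := by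
  have : Fintype K := Fintype.ofFinite K
  rw [Nat.card_eq_fintype_card] at hK
  have hφ2 : ∀ t : K, φ (φ t) = t ^ q ^ 2 := by
    intro t; rw [hφ, hφ, ← pow_mul, pow_two]
  set f : K → K := fun t => a0 + e1 * (u0 * t + φ (u0 * t) + φ (φ (u0 * t))) + e2 * (w0 * (φ t * φ (φ t)) +
      φ (w0 * (φ t * φ (φ t))) + φ (φ (w0 * (φ t * φ (φ t))))) + e3 * b0 * (t * φ t * φ (φ t)) with hf
  have hfix : ∀ t, φ (f t) = f t := by
    intro t
    simp only [hf, map_add, map_mul, he1, he2, he3, ha0, hb0, h3]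
    ring
  let P0 : K[X] := C a0 + C (e1 * u0) * X ^ 1 + C (e1 * φ u0) * X ^ q + C (e1 * φ (φ u0)) * X ^ q ^ 2 +
    C (e2 * w0) * X ^ (q + q ^ 2) + C (e2 * φ w0) * X ^ (q ^ 2 + 1) + C (e2 * φ (φ w0)) * X ^ (1 + q)
  let P : K[X] := P0 + C (e3 * b0) * X ^ (1 + q + q ^ 2)
  have hev : ∀ t, P.eval t = f t := by
    intro t
    simp only [P, P0, hf, eval_add, eval_mul, eval_C, eval_pow, eval_X, map_mul, h3]
    rw [pow_add, pow_add, pow_add, pow_add, pow_add, ← hφ, ← hφ2]
    ring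
  have hqq : q * 2 ≤ q ^ 2 := by rw [pow_two]; exact Nat.mul_le_mul_left q hq
  have hP0 : P0.natDegree ≤ q + q ^ 2 := by
    have key : ∀ (c : K) (n : ℕ), n ≤ q + q ^ 2 → (C c * X ^ n).natDegree ≤ q + q ^ 2 := fun c n hn =>
      (natDegree_C_mul_X_pow_le c n).trans hn
    refine natDegree_add_le_of_degree_le (natDegree_add_le_of_degree_le (natDegree_add_le_of_degree_le
      (natDegree_add_le_of_degree_le (natDegree_add_le_of_degree_le (natDegree_add_le_of_degree_le ?_
      (key _ _ (by omega))) (key _ _ (by omega))) (key _ _ (by omega))) (key _ _ (by omega)))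
      (key _ _ (by omega))) (key _ _ (by omega))
    rw [natDegree_C]; omega
  have hP : P.natDegree ≤ 1 + q + q ^ 2 :=
    natDegree_add_le_of_degree_le (hP0.trans (by omega)) (natDegree_C_mul_X_pow_le _ _)
  have hPc : P.coeff (1 + q + q ^ 2) = e3 * b0 := by
    simp only [P, coeff_add, coeff_C_mul, coeff_X_pow, if_true, mul_one]
    rw [coeff_eq_zero_of_natDegree_lt (by omega), zero_add]
  have hcard : Fintype.card K - 1 = (q - 1) * (1 + q + q ^ 2) := by
    rw [hK]
    obtain ⟨n, rfl⟩ : ∃ n, q = n + 1 := ⟨q - 1, by omega⟩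
    rw [Nat.add_sub_cancel]
    apply Nat.sub_eq_of_eq_add
    ring
  have hsum := sum_eval (P ^ (q - 1)) (by
    rw [hcard]
    exact (natDegree_pow_le).trans (Nat.mul_le_mul_left _ hP))
  rw [hcard, coeff_pow_of_natDegree_le hP, hPc] at hsum
  by_contra hcon
  push Not at hcon
  have hpow : ∀ x : K, φ x = x → x ≠ 0 → x ^ (q - 1) = 1 := by
    intro x hx hx0
    have h1 : x ^ (q - 1) * x = 1 * x := by
      rw [← pow_succ, Nat.sub_add_cancel (by omega), ← hφ, hx, one_mul]
    exact mul_right_cancel₀ hx0 h1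
  have h1 : ∀ t ∈ (Finset.univ : Finset K), (P ^ (q - 1)).eval t = 1 := by
    intro t _
    rw [eval_pow, hev]
    exact hpow _ (hfix t) (hcon t)
  rw [Finset.sum_congr rfl h1, Finset.sum_const, Finset.card_univ, nsmul_eq_mul, mul_one,
    FiniteField.cast_card_eq_zero, hpow _ (by rw [map_mul, he3, hb0]) h] at hsum
  exact one_ne_zero (neg_eq_zero.1 hsum.symm)

end H41.Td2
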