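import Cfsg.Agent.Lib.H41.Td2
import Cfsg.Agent.Lib.H44.LSIrr

/-!
Groups with the relations of `³D₄`: basic consequences for representations.
-/

set_option autoImplicit false

namespace H41.Td3

open H44.LSWeights H44.LSHeis H41.Td1 H41.Td2

variable {K : Type*} [Field K]

/-- the relations -/
structure Pkg (φ : K →+* K) (G : Type*) [Group G] where
  xB : Fx φ → G
  xN : Fx φ → G
  xA : Fx φ → G
  xR : Fx φ → G
  xW : K → G
  xU : K → G
  xG : K → G
  xM : K → G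
  nb : G
  ng : G
  N : K → Fx φ
  N_eq : ∀ t, (N t : K) = t * φ t * φ (φ t)
  eAB : Fx φ
  eUW : Fx φ
  e1 : Fx φ
  e2 : Fx φ
  e3 : Fx φ
  hAB : eAB ≠ 0
  hUW : eUW ≠ 0
  h3 : e3 ≠ 0
  addB : ∀ s t, xB (s + t) = xB s * xB t
  addA : ∀ s t, xA (s + t) = xA s * xA t
  addR : ∀ s t, xR (s + t) = xR s * xR t
  addW : ∀ s t, xW (s + t) = xW s * xW t
  addU : ∀ s t, xU (s + t) = xU s * xU t
  cBW : ∀ b w, xB b * xW w = xW w * xB b
  cBU : ∀ b u, xB b * xU u = xU u * xB b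
  cAW : ∀ a w, xA a * xW w = xW w * xA a
  cAU : ∀ a u, xA a * xU u = xU u * xA a
  cRB : ∀ c b, xR c * xB b = xB b * xR c
  cRA : ∀ c a, xR c * xA a = xA a * xR c
  cRW : ∀ c w, xR c * xW w = xW w * xR c
  cRU : ∀ c u, xR c * xU u = xU u * xR c
  cRM : ∀ c t, xR c * xM t = xM t * xR c
  cRG : ∀ c t, xR c * xG t = xG t * xR c
  cAG : ∀ c t, xA c * xG t = xG t * xA c
  cAB : ∀ a b, xA a * xB b = xB b * xA a * xR (eAB * (a * b))
  cUW : ∀ u w, xU u * xW w = xW w * xU u * xR (eUW * Tr φ (u * w))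
  conj : ∀ t a, ∃ z, xM t * xA a * (xM t)⁻¹ = xB (e3 * (a * N t)) * xW (e2 * (a * (φ t * φ (φ t)))) *
    xU (e1 * (a * t)) * xA a * xR z
  nbA : ∀ a, ∃ c, xA a * nb = nb * xR c
  nbR : ∀ c, ∃ a, xR c * nb = nb * xA a
  nbN : ∀ b, ∃ b', xN b * nb = nb * xB b'
  ngA : ∀ a, ∃ b, xA a * ng = ng * xB b
  ngB : ∀ b, ∃ a, xB b * ng = ng * xA a
  ngR : ∀ a, ∃ a', xR a * ng = ng * xR a'
  ngM : ∀ t, ∃ t', xM t * ng = ng * xG t'
  tR : ∀ c, c ≠ 0 → ∃ h, ∀ a, h * xR a = xR (c * a) * h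
  tB : ∀ c, c ≠ 0 → ∃ h, (∀ a, xB (c * a) * h = h * xB a) ∧ (∀ a, ∃ a', xA a * h = h * xA a') ∧
    (∀ a, ∃ a', xR a * h = h * xR a')
  gen : Subgroup.closure (Set.range xB ∪ Set.range xN ∪ Set.range xG ∪ Set.range xM) = ⊤
  injR : ∀ a, xR a = 1 → a = 0

namespace Pkg

variable {φ : K →+* K} {G : Type*} [Group G] (P : Pkg φ G)

theorem zero_of_add {α : Type*} [AddZeroClass α] {x : α → G} (h : ∀ s t, x (s + t) = x s * x t) : x 0 = 1 := by
  have := h 0 0
  rw [add_zero] at this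
  exact (mul_eq_left.1 this.symm)

theorem zB : P.xB 0 = 1 := zero_of_add P.addB
theorem zA : P.xA 0 = 1 := zero_of_add P.addA
theorem zR : P.xR 0 = 1 := zero_of_add P.addR
theorem zW : P.xW 0 = 1 := zero_of_add P.addW
theorem zU : P.xU 0 = 1 := zero_of_add P.addU

/-- the homomorphism of a root group -/
def jR : Multiplicative (Fx φ) →* G where
  toFun c := P.xR (Multiplicative.toAdd c)
  map_one' := P.zR
  map_mul' c d := by rw [toAdd_mul, P.addR]

/-- the homomorphism of a root group -/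
def jB : Multiplicative (Fx φ) →* G where
  toFun c := P.xB (Multiplicative.toAdd c)
  map_one' := P.zB
  map_mul' c d := by rw [toAdd_mul, P.addB]

/-- the homomorphism of the product of two root groups -/
def jA : Multiplicative (Fx φ × Fx φ) →* G where
  toFun c := P.xR (Multiplicative.toAdd c).1 * P.xA (Multiplicative.toAdd c).2
  map_one' := by
    rw [toAdd_one, Prod.fst_zero, Prod.snd_zero, P.zR, P.zA, one_mul]
  map_mul' c d := by
    rw [toAdd_mul, Prod.fst_add, Prod.snd_add, P.addR, P.addA]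
    have := P.cRA (Multiplicative.toAdd d).1 (Multiplicative.toAdd c).2
    simp only [mul_assoc]
    rw [← mul_assoc (P.xR (Multiplicative.toAdd d).1), this]
    simp only [mul_assoc]

/-- every nonidentity element of the product of the two root groups is conjugate to an element of
the first one -/
theorem exists_conj (c a : Fx φ) (h : ¬ (c = 0 ∧ a = 0)) :
    ∃ (g : G) (d : Fx φ), d ≠ 0 ∧ g * (P.xR c * P.xA a) = P.xR d * g := by
  by_cases ha : a = 0
  · subst ha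
    refine ⟨1, c, fun hc => h ⟨hc, rfl⟩, ?_⟩
    rw [P.zA, one_mul, mul_one]
  · obtain ⟨d, hd⟩ := P.nbA a
    have hxA : P.xA a ≠ 1 := by
      intro h1
      have h2 := P.cAB a 1
      rw [h1, one_mul, mul_one] at h2
      have h3 := P.injR _ (mul_eq_left.1 h2.symm)
      rw [mul_one] at h3
      exact (mul_ne_zero P.hAB ha) h3
    have hd0 : d ≠ 0 := by
      rintro rfl
      rw [P.zR, mul_one] at hd
      exact hxA (mul_eq_right.1 hd)
    -- conjugate into the root group of `α`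
    obtain ⟨s, hs⟩ : ∃ s : Fx φ, P.eAB * (a * s) = c := ⟨(P.eAB * a)⁻¹ * c, by
      have := mul_ne_zero P.hAB ha
      rw [← mul_assoc, mul_inv_cancel_left₀ this]⟩
    have h1 : P.xB s * (P.xR c * P.xA a) = P.xA a * P.xB s := by
      rw [P.cAB, hs, P.cRA, mul_assoc]
    refine ⟨P.nb⁻¹ * P.xB s, d, hd0, ?_⟩
    have h2 : P.nb⁻¹ * P.xA a = P.xR d * P.nb⁻¹ := by
      rw [inv_mul_eq_iff_eq_mul, ← mul_assoc, ← hd, mul_assoc, mul_inv_cancel, mul_one]
    rw [mul_assoc, h1, ← mul_assoc, h2, mul_assoc]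

/-- all nonidentity elements of the product of the two root groups are conjugate -/
theorem exists_conj_one (c a : Fx φ) (h : ¬ (c = 0 ∧ a = 0)) :
    ∃ g : G, g * (P.xR c * P.xA a) = P.xR 1 * g := by
  obtain ⟨g, d, hd, h1⟩ := P.exists_conj c a h
  obtain ⟨k, hk⟩ := P.tR d⁻¹ (inv_ne_zero hd)
  refine ⟨k * g, ?_⟩
  rw [mul_assoc, h1, ← mul_assoc, hk, inv_mul_cancel₀ hd, mul_assoc]

section rep

variable {V : Type*} [AddCommGroup V] [Module ℂ V] (ρ : G →* Module.End ℂ V)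

theorem trace_of_conj {x y g : G} (h : g * x = y * g) :
    LinearMap.trace ℂ V (ρ x) = LinearMap.trace ℂ V (ρ y) := by
  have h1 : x = g⁻¹ * (y * g) := by rw [← h, inv_mul_cancel_left]
  rw [h1, map_mul, LinearMap.trace_mul_comm, ← map_mul, mul_assoc, mul_inv_cancel, mul_one]

variable [FiniteDimensional ℂ V] [Finite K] {q : ℕ}

/-- the three dimension formulas -/
theorem dims (hF : Nat.card (Fx φ) = q) :
    (∀ χ : Multiplicative (Fx φ) →* ℂˣ, χ ≠ 1 → (q : ℂ) * (Module.finrank ℂ (wt (ρ.comp P.jR) χ) : ℂ) =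
      Module.finrank ℂ V + (-1) * LinearMap.trace ℂ V (ρ (P.xR 1))) ∧
    ((q : ℂ) * (Module.finrank ℂ (wt (ρ.comp P.jR) 1) : ℂ) =
      Module.finrank ℂ V + ((q : ℂ) - 1) * LinearMap.trace ℂ V (ρ (P.xR 1))) ∧
    ((q : ℂ) ^ 2 * (Module.finrank ℂ (wt (ρ.comp P.jA) 1) : ℂ) =
      Module.finrank ℂ V + ((q : ℂ) ^ 2 - 1) * LinearMap.trace ℂ V (ρ (P.xR 1))) := by
  classical
  have : Fintype (Multiplicative (Fx φ)) := Fintype.ofFinite _
  have : Fintype (Multiplicative (Fx φ × Fx φ)) := Fintype.ofFinite _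
  have c1 : (Fintype.card (Multiplicative (Fx φ)) : ℂ) = q := by
    rw [← Nat.card_eq_fintype_card, ← hF]; rfl
  have c2 : (Fintype.card (Multiplicative (Fx φ × Fx φ)) : ℂ) = (q : ℂ) ^ 2 := by
    rw [← Nat.card_eq_fintype_card, pow_two, ← Nat.cast_mul, ← hF, ← Nat.card_prod]; rfl
  have hc : ∀ a : Multiplicative (Fx φ), a ≠ 1 → LinearMap.trace ℂ V ((ρ.comp P.jR) a) =
      LinearMap.trace ℂ V (ρ (P.xR 1)) := by
    intro a ha
    obtain ⟨g, hg⟩ := P.exists_conj_one (Multiplicative.toAdd a) 0 (by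
      rintro ⟨h, _⟩
      exact ha (Multiplicative.toAdd.injective h))
    rw [P.zA, mul_one] at hg
    exact trace_of_conj ρ hg
  refine ⟨?_, ?_, ?_⟩
  · intro χ hχ
    rw [← c1, card_mul_finrank_wt]
    refine (sum_char_const χ (fun a => LinearMap.trace ℂ V ((ρ.comp P.jR) a)) _
      (LinearMap.trace ℂ V (ρ (P.xR 1))) rfl hc).trans ?_
    rw [map_one, LinearMap.trace_one, if_neg hχ]
  · rw [← c1, card_mul_finrank_wt]
    refine (sum_char_const 1 (fun a => LinearMap.trace ℂ V ((ρ.comp P.jR) a)) _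
      (LinearMap.trace ℂ V (ρ (P.xR 1))) rfl hc).trans ?_
    rw [map_one, LinearMap.trace_one, if_pos rfl]
  · rw [← c2, card_mul_finrank_wt]
    refine (sum_char_const 1 (fun a => LinearMap.trace ℂ V ((ρ.comp P.jA) a)) _
      (LinearMap.trace ℂ V (ρ (P.xR 1))) rfl ?_).trans ?_
    · intro a ha
      obtain ⟨g, hg⟩ := P.exists_conj_one (Multiplicative.toAdd a).1 (Multiplicative.toAdd a).2 (by
        rintro ⟨h, h'⟩
        exact ha (Multiplicative.toAdd.injective (Prod.ext h h')))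
      exact trace_of_conj ρ hg
    · rw [map_one, LinearMap.trace_one, if_pos rfl]

/-- `q d = q g + (q² - 1) D`, `f = d - (q - 1) D` -/
theorem dims_nat (hF : Nat.card (Fx φ) = q) (χ : Multiplicative (Fx φ) →* ℂˣ) (hχ : χ ≠ 1) :
    q * Module.finrank ℂ V + Module.finrank ℂ (wt (ρ.comp P.jR) χ) =
      q * Module.finrank ℂ (wt (ρ.comp P.jA) 1) + q ^ 2 * Module.finrank ℂ (wt (ρ.comp P.jR) χ) ∧
    Module.finrank ℂ (wt (ρ.comp P.jR) 1) + q * Module.finrank ℂ (wt (ρ.comp P.jR) χ) =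
      Module.finrank ℂ V + Module.finrank ℂ (wt (ρ.comp P.jR) χ) := by
  obtain ⟨h1, h4, h2⟩ := P.dims ρ hF
  have h3 := h1 χ hχ
  set θ := LinearMap.trace ℂ V (ρ (P.xR 1))
  have hq0 : (q : ℂ) ≠ 0 := by
    rw [Nat.cast_ne_zero, ← hF]; exact Nat.card_pos.ne'
  constructor
  · have : ((q * Module.finrank ℂ V + Module.finrank ℂ (wt (ρ.comp P.jR) χ) : ℕ) : ℂ) =
      ((q * Module.finrank ℂ (wt (ρ.comp P.jA) 1) + q ^ 2 * Module.finrank ℂ (wt (ρ.comp P.jR) χ) : ℕ) : ℂ) := by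
      push_cast
      have h5 : (q : ℂ) * (q * Module.finrank ℂ V + Module.finrank ℂ (wt (ρ.comp P.jR) χ)) =
        q * (q * Module.finrank ℂ (wt (ρ.comp P.jA) 1) + q ^ 2 * Module.finrank ℂ (wt (ρ.comp P.jR) χ)) := by
        linear_combination (1 - (q : ℂ) ^ 2) * h3 - h2
      exact mul_left_cancel₀ hq0 h5
    exact_mod_cast this
  · have : ((Module.finrank ℂ (wt (ρ.comp P.jR) 1) + q * Module.finrank ℂ (wt (ρ.comp P.jR) χ) : ℕ) : ℂ) =
      ((Module.finrank ℂ V + Module.finrank ℂ (wt (ρ.comp P.jR) χ) : ℕ) : ℂ) := by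
      push_cast
      have h5 : (q : ℂ) * (Module.finrank ℂ (wt (ρ.comp P.jR) 1) + q * Module.finrank ℂ (wt (ρ.comp P.jR) χ)) =
        q * (Module.finrank ℂ V + Module.finrank ℂ (wt (ρ.comp P.jR) χ)) := by
        linear_combination h4 + ((q : ℂ) - 1) * h3
      exact mul_left_cancel₀ hq0 h5
    exact_mod_cast this

end rep

end Pkg

end H41.Td3
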