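import Cfsg.Agent.Lib.H41.Td3

/-!
Groups with the relations of `³D₄`: the Heisenberg group.
-/

set_option autoImplicit false

namespace H41.Td4

open H44.LSWeights H44.LSHeis H41.Td1 H41.Td2 H41.Td3

theorem merge {G : Type*} [Group G] {b w u a b' w' u' a' r1 r2 : G} (h1 : a * b' = b' * a * r1)
    (h2 : u * w' = w' * u * r2) (h3 : u * b' = b' * u) (h4 : w * b' = b' * w) (h5 : a * w' = w' * a)
    (h6 : a * u' = u' * a) (k1 : r1 * w' = w' * r1) (k2 : r1 * u' = u' * r1) (k3 : r1 * a' = a' * r1)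
    (k4 : r2 * a = a * r2) (k5 : r2 * u' = u' * r2) (k6 : r2 * a' = a' * r2) :
    b * w * u * a * (b' * w' * u' * a') = (b * b') * (w * w') * (u * u') * (a * a') * (r2 * r1) := by
  have m : ∀ {x y z : G}, x * y = z → ∀ t, x * (y * t) = z * t := by
    intro x y z h t; rw [← mul_assoc, h]
  have e1 : b * w * u * a * (b' * w' * u' * a') = b * (b' * (w * (w' * (u * (r2 * (a * (u' * (r1 * a')))))))) := by
    simp only [mul_assoc]
    rw [m h1]
    simp only [mul_assoc]
    rw [m h3, mul_assoc, m h4, mul_assoc, m k1, mul_assoc, m h5, mul_assoc, m h2, mul_assoc, m k2]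
    simp only [mul_assoc]
  rw [e1, k3, m h6, mul_assoc u', m k5, mul_assoc, m k4, mul_assoc, m k6]
  simp only [mul_assoc]

variable {K : Type*} [Field K] {φ : K →+* K} {G : Type*} [Group G] (P : Pkg φ G)

/-- parameters -/
abbrev Par (φ : K →+* K) : Type _ := Fx φ × K × K × Fx φ

/-- elements of the Heisenberg group -/
def s (b : Par φ) : G := P.xB b.1 * P.xW b.2.1 * P.xU b.2.2.1 * P.xA b.2.2.2

/-- the cocycle -/
noncomputable def cc (b i : Par φ) : Fx φ := P.eAB * (b.2.2.2 * i.1) + P.eUW * Tr φ (b.2.2.1 * i.2.1)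

theorem s_mul (b i : Par φ) : s P b * s P i = s P (b + i) * P.xR (cc P b i) := by
  unfold s cc
  rw [add_comm (P.eAB * _), P.addR]
  simp only [Prod.fst_add, Prod.snd_add, P.addB, P.addW, P.addU, P.addA]
  exact merge (P.cAB _ _) (P.cUW _ _) (P.cBU _ _).symm (P.cBW _ _).symm (P.cAW _ _) (P.cAU _ _)
    (P.cRW _ _) (P.cRU _ _) (P.cRA _ _) (P.cRA _ _) (P.cRU _ _) (P.cRA _ _)

theorem s_comm (c : Fx φ) (b : Par φ) : P.xR c * s P b = s P b * P.xR c := by
  unfold s
  rw [← mul_assoc, ← mul_assoc, ← mul_assoc, P.cRB, mul_assoc (P.xB b.1), P.cRW, mul_assoc, mul_assoc,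
    mul_assoc, mul_assoc, mul_assoc, ← mul_assoc (P.xR c), P.cRU]
  simp only [mul_assoc]
  rw [P.cRA]

/-- the form -/
noncomputable def om (b i : Par φ) : Fx φ := cc P b i - cc P i b

theorem s_swap (b i : Par φ) : s P b * s P i = P.xR (om P b i) * (s P i * s P b) := by
  rw [s_mul, s_mul, add_comm i b, ← mul_assoc, s_comm, mul_assoc, ← P.addR, om, sub_add_cancel]

theorem cc_add_left (b b' i : Par φ) : cc P (b + b') i = cc P b i + cc P b' i := by
  unfold cc
  simp only [Prod.fst_add, Prod.snd_add, add_mul, map_add, mul_add]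
  ring

theorem cc_add_right (b i i' : Par φ) : cc P b (i + i') = cc P b i + cc P b i' := by
  unfold cc
  simp only [Prod.fst_add, Prod.snd_add, map_add, mul_add]
  ring

theorem om_add_left (b b' i : Par φ) : om P (b + b') i = om P b i + om P b' i := by
  unfold om; rw [cc_add_left, cc_add_right]; ring

/-- the character attached to an element -/
noncomputable def th (χ : Multiplicative (Fx φ) →* ℂˣ) (i : Multiplicative (Par φ)) :
    Multiplicative (Par φ) →* ℂˣ where
  toFun b := χ (Multiplicative.ofAdd (om P (Multiplicative.toAdd b) (Multiplicative.toAdd i)))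
  map_one' := by
    rw [toAdd_one]
    have h : om P 0 (Multiplicative.toAdd i) = 0 := by
      have := om_add_left P 0 0 (Multiplicative.toAdd i)
      rw [add_zero] at this
      exact left_eq_add.1 this
    rw [h, ofAdd_zero, map_one]
  map_mul' b b' := by rw [toAdd_mul, om_add_left, ofAdd_add, map_mul]

variable [Finite K] {q : ℕ} (hq : 1 < q) (hK : Nat.card K = q ^ 3) (hF : Nat.card (Fx φ) = q)

include hq hK hF in
theorem th_inj {χ : Multiplicative (Fx φ) →* ℂˣ} (hχ : χ ≠ 1) : Function.Injective (th P χ) := by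
  intro i j h
  have key : ∀ b : Par φ, χ (Multiplicative.ofAdd (om P b (Multiplicative.toAdd i))) =
      χ (Multiplicative.ofAdd (om P b (Multiplicative.toAdd j))) := fun b =>
    DFunLike.congr_fun h (Multiplicative.ofAdd b)
  set x := Multiplicative.toAdd i with hx
  set y := Multiplicative.toAdd j with hy
  have hid : Function.Surjective (AddMonoidHom.id (Fx φ)) := fun x => ⟨x, rfl⟩
  have hT := Tr_surj hq hK hF
  have a1 : x.1 = y.1 := by
    have : tw χ (AddMonoidHom.id (Fx φ)) (P.eAB * x.1) = tw χ (AddMonoidHom.id (Fx φ)) (P.eAB * y.1) := by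
      refine MonoidHom.ext fun t => ?_
      have h1 := key (0, 0, 0, Multiplicative.toAdd t)
      simp only [om, cc, zero_mul, mul_zero, map_zero, add_zero, sub_zero] at h1
      rw [show P.eAB * (Multiplicative.toAdd t * x.1) = P.eAB * x.1 * Multiplicative.toAdd t by ring,
        show P.eAB * (Multiplicative.toAdd t * y.1) = P.eAB * y.1 * Multiplicative.toAdd t by ring] at h1
      exact h1
    exact mul_left_cancel₀ P.hAB (tw_inj hχ hid this)
  have a2 : x.2.2.2 = y.2.2.2 := by
    have : tw χ (AddMonoidHom.id (Fx φ)) (-(P.eAB * x.2.2.2)) = tw χ (AddMonoidHom.id (Fx φ)) (-(P.eAB * y.2.2.2)) := by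
      refine MonoidHom.ext fun t => ?_
      have h1 := key (Multiplicative.toAdd t, 0, 0, 0)
      simp only [om, cc, zero_mul, mul_zero, map_zero, add_zero, zero_sub] at h1
      rw [show -(P.eAB * (x.2.2.2 * Multiplicative.toAdd t)) = -(P.eAB * x.2.2.2) * Multiplicative.toAdd t by ring,
        show -(P.eAB * (y.2.2.2 * Multiplicative.toAdd t)) = -(P.eAB * y.2.2.2) * Multiplicative.toAdd t by ring] at h1
      exact h1
    exact mul_left_cancel₀ P.hAB (neg_injective (tw_inj hχ hid this))
  have hUW' : (P.eUW : K) ≠ 0 := fun h => P.hUW (Subtype.ext h)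
  have a3 : x.2.1 = y.2.1 := by
    have : tw χ (Tr φ) (P.eUW * x.2.1) = tw χ (Tr φ) (P.eUW * y.2.1) := by
      refine MonoidHom.ext fun t => ?_
      have h1 := key (0, 0, Multiplicative.toAdd t, 0)
      simp only [om, cc, zero_mul, mul_zero, map_zero, zero_add, sub_zero] at h1
      rw [← Tr_smul, ← Tr_smul, show (P.eUW : K) * (Multiplicative.toAdd t * x.2.1) = P.eUW * x.2.1 * Multiplicative.toAdd t by ring,
        show (P.eUW : K) * (Multiplicative.toAdd t * y.2.1) = P.eUW * y.2.1 * Multiplicative.toAdd t by ring] at h1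
      exact h1
    exact mul_left_cancel₀ hUW' (tw_inj hχ hT this)
  have a4 : x.2.2.1 = y.2.2.1 := by
    have : tw χ (Tr φ) (-(P.eUW * x.2.2.1)) = tw χ (Tr φ) (-(P.eUW * y.2.2.1)) := by
      refine MonoidHom.ext fun t => ?_
      have h1 := key (0, Multiplicative.toAdd t, 0, 0)
      simp only [om, cc, zero_mul, mul_zero, map_zero, zero_add, zero_sub] at h1
      rw [← Tr_smul, ← Tr_smul, ← map_neg, ← map_neg,
        show -((P.eUW : K) * (x.2.2.1 * Multiplicative.toAdd t)) = -(P.eUW * x.2.2.1) * Multiplicative.toAdd t by ring,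
        show -((P.eUW : K) * (y.2.2.1 * Multiplicative.toAdd t)) = -(P.eUW * y.2.2.1) * Multiplicative.toAdd t by ring] at h1
      exact h1
    exact mul_left_cancel₀ hUW' (neg_injective (tw_inj hχ hT this))
  apply Multiplicative.toAdd.injective
  exact Prod.ext a1 (Prod.ext a3 (Prod.ext a4 a2))

section rep

variable {V : Type*} [AddCommGroup V] [Module ℂ V] (ρ : G →* Module.End ℂ V) [FiniteDimensional ℂ V]

include hq hK hF in
/-- the Heisenberg bound -/
theorem heis_bound {χ : Multiplicative (Fx φ) →* ℂˣ} (hχ : χ ≠ 1) (hW : wt (ρ.comp P.jR) χ ≠ ⊥) :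
    q ^ 4 ≤ Module.finrank ℂ (wt (ρ.comp P.jR) χ) := by
  have hB : Nat.card (Multiplicative (Par φ)) = q ^ 8 := by
    have : Nat.card (Multiplicative (Par φ)) = Nat.card (Fx φ × K × K × Fx φ) := rfl
    rw [this, Nat.card_prod, Nat.card_prod, Nat.card_prod, hF, hK]
    ring
  have h := heis ρ P.jR χ hW (B := Multiplicative (Par φ)) (by
    rw [Nat.cast_ne_zero]; exact Nat.card_pos.ne') (fun b => s P (Multiplicative.toAdd b))
    (fun b a => (s_comm P (Multiplicative.toAdd a) _).symm) (fun b b' => ⟨Multiplicative.ofAdd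
      (-(cc P (Multiplicative.toAdd b) (Multiplicative.toAdd b'))), by
        rw [toAdd_mul, s_mul, mul_assoc]
        have : P.xR (cc P (Multiplicative.toAdd b) (Multiplicative.toAdd b')) *
          P.jR (Multiplicative.ofAdd (-(cc P (Multiplicative.toAdd b) (Multiplicative.toAdd b')))) = 1 := by
          change P.xR _ * P.xR _ = 1
          rw [← P.addR, toAdd_ofAdd, add_neg_cancel, P.zR]
        rw [this, mul_one]⟩) (th P χ) (fun b i => ⟨Multiplicative.ofAdd (om P (Multiplicative.toAdd b)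
      (Multiplicative.toAdd i)), s_swap P _ _, rfl⟩) 1 (by
    intro χ'
    have hs : Subsingleton {i // th P χ i = χ'} := ⟨fun x y => Subtype.ext
      (th_inj P hq hK hF hχ (x.2.trans y.2.symm))⟩
    exact Finite.card_le_one_iff_subsingleton.2 hs)
  rw [hB, mul_one] at h
  have h2 : (q ^ 4) ^ 2 ≤ (Module.finrank ℂ (wt (ρ.comp P.jR) χ)) ^ 2 := by
    rw [← pow_mul]; exact h
  exact (Nat.pow_le_pow_iff_left (by norm_num)).1 h2

omit [FiniteDimensional ℂ V] in
/-- an eigenvector of the Heisenberg group fixed by its centre -/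
theorem exists_eigen (hW : wt (ρ.comp P.jR) 1 ≠ ⊥) : ∃ (χ : Multiplicative (Par φ) →* ℂˣ) (v : V),
    v ≠ 0 ∧ (∀ c, ρ (P.xR c) v = v) ∧ ∀ b : Par φ, ρ (s P b) v = (χ (Multiplicative.ofAdd b) : ℂ) • v := by
  let sc : Par φ → Subgroup.centralizer (Set.range P.jR) := fun b => ⟨s P b, by
    rw [Subgroup.mem_centralizer_iff]
    rintro _ ⟨a, rfl⟩
    exact s_comm P (Multiplicative.toAdd a) b⟩
  have hj : ∀ a, resW ρ P.jR 1 (jc P.jR a) = 1 := by
    intro a
    rw [resW_jc, MonoidHom.one_apply, Units.val_one, one_smul]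
  have hm : ∀ b b', resW ρ P.jR 1 (sc (b + b')) = resW ρ P.jR 1 (sc b) * resW ρ P.jR 1 (sc b') := by
    intro b b'
    have h1 : sc b * sc b' = sc (b + b') * jc P.jR (Multiplicative.ofAdd (cc P b b')) :=
      Subtype.ext (s_mul P b b')
    rw [← map_mul, h1, map_mul, hj, mul_one]
  let C : Multiplicative (Par φ) →* Module.End ℂ (wt (ρ.comp P.jR) 1) :=
    { toFun := fun b => resW ρ P.jR 1 (sc (Multiplicative.toAdd b))
      map_one' := by
        have h0 : sc 0 = 1 := by
          apply Subtype.ext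
          change P.xB 0 * P.xW 0 * P.xU 0 * P.xA 0 = 1
          rw [P.zB, P.zW, P.zU, P.zA, one_mul, one_mul, one_mul]
        rw [toAdd_one, h0, map_one]
      map_mul' := fun b b' => by rw [toAdd_mul, hm] }
  have : Nontrivial (wt (ρ.comp P.jR) 1) := Submodule.nontrivial_iff_ne_bot.2 hW
  obtain ⟨χ, hχ⟩ := exists_wt C
  obtain ⟨w, hw, hw0⟩ := (Submodule.ne_bot_iff _).1 hχ
  refine ⟨χ, w.1, fun h => hw0 (Subtype.ext h), ?_, ?_⟩
  · intro c
    have := w.2 (Multiplicative.ofAdd c)
    rw [MonoidHom.one_apply, Units.val_one, one_smul] at this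
    exact this
  · intro b
    have := congrArg Subtype.val (hw (Multiplicative.ofAdd b))
    exact this

end rep

end H41.Td4
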