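import Cfsg.Agent.Lib.H41.Td4

/-!
Groups with the relations of `³D₄`: the fixed points of the product of two long root groups.
-/

set_option autoImplicit false

namespace H41.Td5

open H44.LSWeights H44.LSHeis H41.Td1 H41.Td2 H41.Td3 H41.Td4

variable {K : Type*} [Field K] {φ : K →+* K} {G : Type*} [Group G] (P : Pkg φ G)
variable {V : Type*} [AddCommGroup V] [Module ℂ V] (ρ : G →* Module.End ℂ V)

/-- the fixed space -/
noncomputable abbrev Y : Submodule ℂ V := wt (ρ.comp P.jA) 1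

theorem mem_Y {v : V} : v ∈ Y P ρ ↔ (∀ c, ρ (P.xR c) v = v) ∧ ∀ a, ρ (P.xA a) v = v := by
  constructor
  · intro h
    constructor
    · intro c
      have := h (Multiplicative.ofAdd (c, 0))
      rw [MonoidHom.one_apply, Units.val_one, one_smul] at this
      change ρ (P.xR c * P.xA 0) v = v at this
      rwa [P.zA, mul_one] at this
    · intro a
      have := h (Multiplicative.ofAdd (0, a))
      rw [MonoidHom.one_apply, Units.val_one, one_smul] at this
      change ρ (P.xR 0 * P.xA a) v = v at this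
      rwa [P.zR, one_mul] at this
  · rintro ⟨h1, h2⟩ a
    rw [MonoidHom.one_apply, Units.val_one, one_smul]
    change ρ (P.xR _ * P.xA _) v = v
    rw [map_mul, Module.End.mul_apply, h2, h1]

/-- moving fixed points -/
theorem fix_of_conj {x y n : G} (h : x * n = n * y) {v : V} (hv : ρ y v = v) :
    ρ x (ρ n v) = ρ n v := by
  rw [← Module.End.mul_apply, ← map_mul, h, map_mul, Module.End.mul_apply, hv]

theorem ne_zero_of (g : G) {v : V} (hv : v ≠ 0) : ρ g v ≠ 0 := by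
  intro h
  apply hv
  have : ρ (g⁻¹ * g) v = 0 := by rw [map_mul, Module.End.mul_apply, h, map_zero]
  rwa [inv_mul_cancel, map_one, Module.End.one_apply] at this

variable [Finite K] {q : ℕ} (hq : 1 < q) (hK : Nat.card K = q ^ 3) (hF : Nat.card (Fx φ) = q)
  (hφ : ∀ t, φ t = t ^ q) (h3 : ∀ t : K, φ (φ (φ t)) = t)

include hq hK hF hφ h3

theorem Y_ne_bot (hW : wt (ρ.comp P.jR) 1 ≠ ⊥) : Y P ρ ≠ ⊥ := by
  obtain ⟨χ, v, hv0, hvR, hv⟩ := exists_eigen P ρ hW
  obtain ⟨ψ, hψ⟩ := exists_char (Fx φ)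
  have hid : Function.Surjective (AddMonoidHom.id (Fx φ)) := fun x => ⟨x, rfl⟩
  have hT := Tr_surj hq hK hF
  let ib : Fx φ →+ Par φ := AddMonoidHom.inl _ _
  let iw : K →+ Par φ := (AddMonoidHom.inr _ _).comp (AddMonoidHom.inl _ _)
  let iu : K →+ Par φ := (AddMonoidHom.inr _ _).comp ((AddMonoidHom.inr _ _).comp (AddMonoidHom.inl _ _))
  let ia : Fx φ →+ Par φ := (AddMonoidHom.inr _ _).comp ((AddMonoidHom.inr _ _).comp (AddMonoidHom.inr _ _))
  obtain ⟨b0, hb0⟩ := tw_surj hψ hid (χ.comp (AddMonoidHom.toMultiplicative ib))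
  obtain ⟨w0, hw0⟩ := tw_surj hψ hT (χ.comp (AddMonoidHom.toMultiplicative iw))
  obtain ⟨u0, hu0⟩ := tw_surj hψ hT (χ.comp (AddMonoidHom.toMultiplicative iu))
  obtain ⟨a0, ha0⟩ := tw_surj hψ hid (χ.comp (AddMonoidHom.toMultiplicative ia))
  have kb : ∀ t, χ (Multiplicative.ofAdd (ib t)) = ψ (Multiplicative.ofAdd (b0 * t)) := fun t =>
    (DFunLike.congr_fun hb0 (Multiplicative.ofAdd t)).symm
  have kw : ∀ t, χ (Multiplicative.ofAdd (iw t)) = ψ (Multiplicative.ofAdd (Tr φ (w0 * t))) := fun t =>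
    (DFunLike.congr_fun hw0 (Multiplicative.ofAdd t)).symm
  have ku : ∀ t, χ (Multiplicative.ofAdd (iu t)) = ψ (Multiplicative.ofAdd (Tr φ (u0 * t))) := fun t =>
    (DFunLike.congr_fun hu0 (Multiplicative.ofAdd t)).symm
  have ka : ∀ t, χ (Multiplicative.ofAdd (ia t)) = ψ (Multiplicative.ofAdd (a0 * t)) := fun t =>
    (DFunLike.congr_fun ha0 (Multiplicative.ofAdd t)).symm
  by_cases hb : b0 = 0
  · -- the root group of `β` fixes `v`
    have hB : ∀ b, ρ (P.xB b) v = v := by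
      intro b
      have h1 := hv (ib b)
      rw [kb, hb, zero_mul, ofAdd_zero, map_one, Units.val_one, one_smul] at h1
      have h2 : s P (ib b) = P.xB b := by
        change P.xB b * P.xW 0 * P.xU 0 * P.xA 0 = P.xB b
        rw [P.zW, P.zU, P.zA, mul_one, mul_one, mul_one]
      rwa [h2] at h1
    rw [Submodule.ne_bot_iff]
    refine ⟨ρ P.ng v, (mem_Y P ρ).2 ⟨?_, ?_⟩, ne_zero_of ρ _ hv0⟩
    · intro c
      obtain ⟨a', h⟩ := P.ngR c
      exact fix_of_conj ρ h (hvR _)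
    · intro a
      obtain ⟨b, h⟩ := P.ngA a
      exact fix_of_conj ρ h (hB _)
  · have h30 : (P.e3 : K) * (b0 : K) ≠ 0 := by
      intro h
      rcases mul_eq_zero.1 h with h | h
      · exact P.h3 (Subtype.ext h)
      · exact hb (Subtype.ext h)
    obtain ⟨t, ht⟩ := cw hq hK hφ h3 (P.e1 : K) P.e2 P.e3 a0 b0 u0 w0 P.e1.2 P.e2.2 P.e3.2 a0.2 b0.2 h30
    have key : ∀ a : Fx φ, ρ (P.xM t * P.xA a * (P.xM t)⁻¹) v = v := by
      intro a
      obtain ⟨z, hz⟩ := P.conj t a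
      rw [hz]
      change ρ (s P (P.e3 * (a * P.N t), P.e2 * (a * (φ t * φ (φ t))), P.e1 * (a * t), a) * P.xR z) v = v
      rw [map_mul, Module.End.mul_apply, hvR, hv]
      have hdec : (P.e3 * (a * P.N t), P.e2 * (a * (φ t * φ (φ t))), P.e1 * (a * t), a) =
          ib (P.e3 * (a * P.N t)) + iw (P.e2 * (a * (φ t * φ (φ t)))) + iu (P.e1 * (a * t)) + ia a := by
        refine Prod.ext ?_ (Prod.ext ?_ (Prod.ext ?_ ?_))
        · simp [ib, iw, iu, ia]
        · simp [ib, iw, iu, ia]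
        · simp [ib, iw, iu, ia]
        · simp [ib, iw, iu, ia]
      rw [hdec, ofAdd_add, ofAdd_add, ofAdd_add, map_mul, map_mul, map_mul, kb, kw, ku, ka, ← map_mul,
        ← map_mul, ← map_mul, ← ofAdd_add, ← ofAdd_add, ← ofAdd_add]
      have hsum : b0 * (P.e3 * (a * P.N t)) + Tr φ (w0 * (P.e2 * (a * (φ t * φ (φ t))))) +
          Tr φ (u0 * (P.e1 * (a * t))) + a0 * a = 0 := by
        apply Subtype.ext
        push_cast
        rw [Tr_eq hq hK hF hφ, Tr_eq hq hK hF hφ, P.N_eq]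
        have f1 : φ (P.e1 : K) = P.e1 := P.e1.2
        have f2 : φ (P.e2 : K) = P.e2 := P.e2.2
        have f3 : φ (a : K) = a := a.2
        simp only [map_mul, f1, f2, f3] at ht ⊢
        linear_combination (a : K) * ht
      rw [hsum, ofAdd_zero, map_one, Units.val_one, one_smul]
    rw [Submodule.ne_bot_iff]
    refine ⟨ρ (P.xM t)⁻¹ v, (mem_Y P ρ).2 ⟨?_, ?_⟩, ne_zero_of ρ _ hv0⟩
    · intro c
      refine fix_of_conj ρ (y := P.xR c) ?_ (hvR _)
      rw [eq_inv_mul_iff_mul_eq, ← mul_assoc, ← P.cRM, mul_assoc, mul_inv_cancel, mul_one]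
    · intro a
      refine fix_of_conj ρ (y := P.xM t * P.xA a * (P.xM t)⁻¹) ?_ (key a)
      rw [eq_inv_mul_iff_mul_eq, ← mul_assoc]

omit [Finite K] hq hK hF hφ h3 in
theorem inv_stable [FiniteDimensional ℂ V] (W : Submodule ℂ V) (g : G) (h : ∀ v ∈ W, ρ g v ∈ W) :
    ∀ v ∈ W, ρ g⁻¹ v ∈ W := by
  have hinj : Function.Injective (ρ g) := by
    intro x y hxy
    have : ρ (g⁻¹ * g) x = ρ (g⁻¹ * g) y := by
      rw [map_mul, Module.End.mul_apply, Module.End.mul_apply, hxy]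
    rwa [inv_mul_cancel, map_one, Module.End.one_apply, Module.End.one_apply] at this
  have h1 : W.map (ρ g) ≤ W := by
    rintro _ ⟨v, hv, rfl⟩
    exact h v hv
  have h2 : W.map (ρ g) = W := Submodule.eq_of_le_of_finrank_eq h1
    (LinearEquiv.finrank_eq (Submodule.equivMapOfInjective (ρ g) hinj W)).symm
  intro v hv
  rw [← h2] at hv
  obtain ⟨w, hw, rfl⟩ := hv
  rw [← Module.End.mul_apply, ← map_mul, inv_mul_cancel, map_one, Module.End.one_apply]
  exact hw

omit [Finite K] hq hK hF hφ h3 in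
/-- if the root group of `β` acts trivially on `Y` then `Y` is invariant -/
theorem Y_stable [FiniteDimensional ℂ V] (hB : ∀ b, ∀ v ∈ Y P ρ, ρ (P.xB b) v = v) :
    ∀ g, ∀ v ∈ Y P ρ, ρ g v ∈ Y P ρ := by
  have hng : ∀ v ∈ Y P ρ, ρ P.ng v ∈ Y P ρ := by
    intro v hv
    obtain ⟨h1, h2⟩ := (mem_Y P ρ).1 hv
    refine (mem_Y P ρ).2 ⟨?_, ?_⟩
    · intro c
      obtain ⟨a', h⟩ := P.ngR c
      exact fix_of_conj ρ h (h1 _)
    · intro a
      obtain ⟨b, h⟩ := P.ngA a
      exact fix_of_conj ρ h (hB _ _ hv)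
  have hnb : ∀ v ∈ Y P ρ, ρ P.nb v ∈ Y P ρ := by
    intro v hv
    obtain ⟨h1, h2⟩ := (mem_Y P ρ).1 hv
    refine (mem_Y P ρ).2 ⟨?_, ?_⟩
    · intro c
      obtain ⟨a', h⟩ := P.nbR c
      exact fix_of_conj ρ h (h2 _)
    · intro a
      obtain ⟨b, h⟩ := P.nbA a
      exact fix_of_conj ρ h (h1 _)
  have hng' := inv_stable ρ (Y P ρ) P.ng hng
  have hnb' := inv_stable ρ (Y P ρ) P.nb hnb
  have hG : ∀ t, ∀ v ∈ Y P ρ, ρ (P.xG t) v ∈ Y P ρ := by
    intro t v hv
    obtain ⟨h1, h2⟩ := (mem_Y P ρ).1 hv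
    refine (mem_Y P ρ).2 ⟨fun c => fix_of_conj ρ (P.cRG c t) (h1 c), fun a => fix_of_conj ρ (P.cAG a t) (h2 a)⟩
  have hgen : ∀ g ∈ Subgroup.closure (Set.range P.xB ∪ Set.range P.xN ∪ Set.range P.xG ∪ Set.range P.xM),
      ∀ v ∈ Y P ρ, ρ g v ∈ Y P ρ := by
    intro g hg
    induction hg using Subgroup.closure_induction with
    | mem x hx =>
      intro v hv
      rcases hx with ((⟨b, rfl⟩ | ⟨b, rfl⟩) | ⟨t, rfl⟩) | ⟨t, rfl⟩
      · rw [hB b v hv]; exact hv
      · obtain ⟨b', h⟩ := P.nbN b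
        have h1 : P.xN b = P.nb * (P.xB b' * P.nb⁻¹) := by
          rw [← mul_assoc, ← h, mul_assoc, mul_inv_cancel, mul_one]
        rw [h1, map_mul, map_mul, Module.End.mul_apply, Module.End.mul_apply]
        apply hnb
        rw [hB _ _ (hnb' v hv)]
        exact hnb' v hv
      · exact hG t v hv
      · obtain ⟨t', h⟩ := P.ngM t
        have h1 : P.xM t = P.ng * (P.xG t' * P.ng⁻¹) := by
          rw [← mul_assoc, ← h, mul_assoc, mul_inv_cancel, mul_one]
        rw [h1, map_mul, map_mul, Module.End.mul_apply, Module.End.mul_apply]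
        exact hng _ (hG _ _ (hng' v hv))
    | one => intro v hv; rw [map_one]; exact hv
    | mul x y _ _ hx hy =>
      intro v hv
      rw [map_mul, Module.End.mul_apply]
      exact hx _ (hy _ hv)
    | inv x _ hx => exact inv_stable ρ _ x hx
  intro g
  exact hgen g (by rw [P.gen]; exact Subgroup.mem_top g)

omit hq hK hφ h3 in
/-- otherwise its dimension is at least `q - 1` -/
theorem card_le_Y [FiniteDimensional ℂ V] {b : Fx φ} {v : V} (hv : v ∈ Y P ρ) (hb : ρ (P.xB b) v ≠ v) :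
    q - 1 ≤ Module.finrank ℂ (Y P ρ) := by
  classical
  have hst : ∀ b, ∀ v ∈ Y P ρ, ρ (P.xB b) v ∈ Y P ρ := by
    intro b v hv
    obtain ⟨h1, h2⟩ := (mem_Y P ρ).1 hv
    refine (mem_Y P ρ).2 ⟨fun c => fix_of_conj ρ (P.cRB c b) (h1 c), fun a => ?_⟩
    refine fix_of_conj ρ (y := P.xA a * P.xR (P.eAB * (a * b))) ?_ ?_
    · rw [P.cAB, mul_assoc]
    · rw [map_mul, Module.End.mul_apply, h1, h2]
  let C : Multiplicative (Fx φ) →* Module.End ℂ (Y P ρ) :=
    { toFun := fun b => (ρ (P.xB (Multiplicative.toAdd b))).restrict (hst _)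
      map_one' := by
        apply LinearMap.ext
        intro w
        apply Subtype.ext
        change ρ (P.xB 0) w.1 = w.1
        rw [P.zB, map_one, Module.End.one_apply]
      map_mul' := fun b b' => by
        apply LinearMap.ext
        intro w
        apply Subtype.ext
        change ρ (P.xB (Multiplicative.toAdd (b * b'))) w.1 = ρ (P.xB (Multiplicative.toAdd b)) (ρ (P.xB (Multiplicative.toAdd b')) w.1)
        rw [toAdd_mul, P.addB, map_mul, Module.End.mul_apply] }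
  have hCb : C (Multiplicative.ofAdd b) ≠ 1 := by
    intro h
    apply hb
    exact congrArg Subtype.val (LinearMap.congr_fun h ⟨v, hv⟩)
  obtain ⟨χ, hχ, hχb⟩ := exists_weight (K := ℂ) (by
    rw [Nat.cast_ne_zero]; exact Nat.card_pos.ne') C (Multiplicative.ofAdd b) hCb
  have hχ1 : χ ≠ 1 := by rintro rfl; exact hχb rfl
  have hid : Function.Surjective (AddMonoidHom.id (Fx φ)) := fun x => ⟨x, rfl⟩
  have hall : ∀ c : Fx φ, c ≠ 0 → wt C (tw χ (AddMonoidHom.id (Fx φ)) c) ≠ ⊥ := by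
    intro c hc
    obtain ⟨h, hB, hA, hR⟩ := P.tB c⁻¹ (inv_ne_zero hc)
    obtain ⟨w, hw, hw0⟩ := (Submodule.ne_bot_iff _).1 hχ
    rw [Submodule.ne_bot_iff]
    obtain ⟨hw1, hw2⟩ := (mem_Y P ρ).1 w.2
    have hmem : ρ h w.1 ∈ Y P ρ := by
      refine (mem_Y P ρ).2 ⟨?_, ?_⟩
      · intro c
        obtain ⟨a', h'⟩ := hR c
        exact fix_of_conj ρ h' (hw1 _)
      · intro a
        obtain ⟨b, h'⟩ := hA a
        exact fix_of_conj ρ h' (hw2 _)
    refine ⟨⟨ρ h w.1, hmem⟩, ?_, ?_⟩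
    · intro a
      apply Subtype.ext
      have h1 : ρ (P.xB (c * Multiplicative.toAdd a)) w.1 =
          (χ (Multiplicative.ofAdd (c * Multiplicative.toAdd a)) : ℂ) • w.1 :=
        congrArg Subtype.val (hw (Multiplicative.ofAdd (c * Multiplicative.toAdd a)))
      have h2 := hB (c * Multiplicative.toAdd a)
      rw [inv_mul_cancel_left₀ hc] at h2
      change ρ (P.xB (Multiplicative.toAdd a)) (ρ h w.1) = (χ (Multiplicative.ofAdd (c * Multiplicative.toAdd a)) : ℂ) • ρ h w.1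
      rw [← Module.End.mul_apply, ← map_mul, h2, map_mul, Module.End.mul_apply, h1, map_smul]
    · intro h0
      exact ne_zero_of ρ h (fun h1 => hw0 (Subtype.ext h1)) (congrArg Subtype.val h0)
  have : Fintype (Fx φ) := Fintype.ofFinite _
  have : Finite (Multiplicative (Fx φ) →* ℂˣ) := finite_chars _
  let S : Finset (Multiplicative (Fx φ) →* ℂˣ) :=
    (Finset.univ.erase (0 : Fx φ)).image (tw χ (AddMonoidHom.id (Fx φ)))
  have hS : S.card = q - 1 := by
    rw [Finset.card_image_of_injective _ (tw_inj hχ1 hid), Finset.card_erase_of_mem (Finset.mem_univ _),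
      Finset.card_univ, ← Nat.card_eq_fintype_card, hF]
  have hle := card_le (K := ℂ) (by rw [Nat.cast_ne_zero]; exact Nat.card_pos.ne') C S 1 (by
    intro χ' hχ'
    obtain ⟨c, hc, rfl⟩ := Finset.mem_image.1 hχ'
    exact one_le_finrank _ (hall c (Finset.ne_of_mem_erase hc)))
  rw [hS, mul_one] at hle
  exact hle

include P in
/-- the dichotomy -/
theorem main [FiniteDimensional ℂ V] (hfaith : ∀ g, ρ g = 1 → g = 1) (hV : 0 < Module.finrank ℂ V)
    (hirr : ∀ W : Submodule ℂ V, (∀ g, ∀ v ∈ W, ρ g v ∈ W) → W = ⊥ ∨ W = ⊤) :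
    q * (q ^ 4 - q ^ 2 + 1) ≤ Module.finrank ℂ V ∨ Module.finrank ℂ V = (q - 1) * (q ^ 4 + q ^ 3 + 1) := by
  have hx : ρ (P.xR 1) ≠ 1 := by
    intro h
    exact one_ne_zero (P.injR 1 (hfaith _ h))
  obtain ⟨χ, hχ, hχ1⟩ := exists_weight (K := ℂ) (by
    rw [Nat.cast_ne_zero]; exact Nat.card_pos.ne') (ρ.comp P.jR) (Multiplicative.ofAdd (1 : Fx φ)) hx
  have hχ' : χ ≠ 1 := by rintro rfl; exact hχ1 rfl
  have hD := heis_bound P hq hK hF ρ hχ' hχ
  obtain ⟨e1, e2⟩ := P.dims_nat ρ hF χ hχ'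
  set D := Module.finrank ℂ (wt (ρ.comp P.jR) χ) with hDdef
  set d := Module.finrank ℂ V with hd
  set g := Module.finrank ℂ (wt (ρ.comp P.jA) 1) with hg
  have hf : wt (ρ.comp P.jR) 1 ≠ ⊥ := by
    intro h
    rw [h, finrank_bot, zero_add] at e2
    have h1 : q * (q * D) = q * (d + D) := by rw [e2]
    have h2 : q * D + D ≤ q * d + q * D + D := by nlinarith
    have h4 : D = q * g + q * D := by nlinarith
    have h5 : 0 < D := lt_of_lt_of_le (Nat.pow_pos (by omega)) hD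
    have h6 : 2 * D ≤ q * D := Nat.mul_le_mul_right D hq
    omega
  have hY := Y_ne_bot P ρ hq hK hF hφ h3 hf
  have hnt : ∃ b, ∃ v ∈ Y P ρ, ρ (P.xB b) v ≠ v := by
    by_contra hcon
    push Not at hcon
    rcases hirr (Y P ρ) (Y_stable P ρ hcon) with h | h
    · exact hY h
    · apply hx
      apply LinearMap.ext
      intro v
      have hv : v ∈ Y P ρ := by rw [h]; trivial
      exact ((mem_Y P ρ).1 hv).1 1
  obtain ⟨b, v, hv, hb⟩ := hnt
  have hgq : q - 1 ≤ g := card_le_Y P ρ hF hv hb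
  -- arithmetic
  have hdiv : q ∣ D := by
    have h1 : q ∣ q * d + D := by rw [e1]; exact Dvd.dvd.add ⟨g, rfl⟩ ⟨q * D, by ring⟩
    exact (Nat.dvd_add_right ⟨d, rfl⟩).1 h1
  obtain ⟨m, hm⟩ := hdiv
  have hq0 : 0 < q := by omega
  have e3 : d + m = g + q ^ 2 * m := by
    have : q * (d + m) = q * (g + q ^ 2 * m) := by
      calc q * (d + m) = q * d + D := by rw [hm]; ring
        _ = q * g + q ^ 2 * D := e1
        _ = q * (g + q ^ 2 * m) := by rw [hm]; ring
    exact Nat.eq_of_mul_eq_mul_left hq0 this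
  have hm3 : q ^ 3 ≤ m := by
    have : q * q ^ 3 ≤ q * m := by
      calc q * q ^ 3 = q ^ 4 := by ring
        _ ≤ D := hD
        _ = q * m := hm
    exact Nat.le_of_mul_le_mul_left this hq0
  obtain ⟨n, rfl⟩ : ∃ n, q = n + 2 := ⟨q - 2, by omega⟩
  obtain ⟨k, rfl⟩ : ∃ k, m = (n + 2) ^ 3 + k := ⟨m - (n + 2) ^ 3, by omega⟩
  obtain ⟨j, hj⟩ : ∃ j, g = n + 1 + j := ⟨g - (n + 1), by omega⟩
  have hd4 : (n + 2) ^ 4 - (n + 2) ^ 2 + 1 = (n + 2) ^ 2 * ((n + 1) * (n + 3)) + 1 := by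
    congr 1
    apply Nat.sub_eq_of_eq_add
    ring
  have hd2 : d = g + (n + 1) * (n + 3) * ((n + 2) ^ 3 + k) := by
    have : d + ((n + 2) ^ 3 + k) = g + (n + 1) * (n + 3) * ((n + 2) ^ 3 + k) + ((n + 2) ^ 3 + k) := by
      rw [e3]; ring
    exact Nat.add_right_cancel this
  have hn1 : n + 2 - 1 = n + 1 := by omega
  rw [hd4, hn1, hd2, hj]
  rcases Nat.eq_zero_or_pos k with rfl | hk
  · rcases Nat.eq_zero_or_pos j with rfl | hj0
    · right; ring
    · left; nlinarith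
  · left
    have : (n + 1) * (n + 3) * 1 ≤ (n + 1) * (n + 3) * k := Nat.mul_le_mul_left _ hk
    nlinarith

end H41.Td5
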