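import Cfsg.Agent.Lib.H22.TwD4b

/-!
Explicit relations between root elements.
-/

set_option autoImplicit false
set_option linter.unusedSectionVars false

namespace H41.Td6

open H22.ChevRel H22.ChevSys H22.ChevStd H22.RCCheck H22.Coord
open Cfsg.Lie (ChevalleyDatum)
open scoped MatrixGroups Matrix

variable {D : ChevalleyDatum} {F : Type*} [Field F] (R : Rel D F)

/-- commuting root elements -/
theorem c0 {r s : ℕ} (hr : r < D.nroots) (hs : s < D.nroots) (h1 : s ≠ r) (h2 : s ≠ D.neg r)
    (hC : D.commTerms r s = []) (t u : F) : xg R r t * xg R s u = xg R s u * xg R r t := by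
  apply Units.ext
  have h := R.comm r hr s hs h1 h2 t u
  have h3 : D.commWord F r s t u = [] := by
    unfold ChevalleyDatum.commWord
    rw [hC]; rfl
  rw [h3] at h
  have h4 : D.wordMat F [] = 1 := by simp [ChevalleyDatum.wordMat]
  rw [h4, mul_one] at h
  exact h.symm

/-- root elements whose commutator is a root element -/
theorem c1 {r s k : ℕ} {C : ℤ} (hr : r < D.nroots) (hs : s < D.nroots) (h1 : s ≠ r) (h2 : s ≠ D.neg r)
    (hC : D.commTerms r s = [(k, C, 1, 1)]) (t u : F) :
    xg R r t * xg R s u = xg R s u * xg R r t * xg R k ((C : F) * (t * u)) := by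
  have h := R.comm r hr s hs h1 h2 t u
  have h3 : D.commWord F r s t u = [(k, (C : F) * (-t) ^ 1 * u ^ 1)] := by
    unfold ChevalleyDatum.commWord
    rw [hC]; rfl
  rw [h3] at h
  have h4 : D.wordMat F [(k, (C : F) * (-t) ^ 1 * u ^ 1)] = D.x F k (-((C : F) * (t * u))) := by
    have : (C : F) * (-t) ^ 1 * u ^ 1 = -((C : F) * (t * u)) := by ring
    simp only [ChevalleyDatum.wordMat, List.map_cons, List.map_nil, List.prod_cons, List.prod_nil,
      mul_one, this]
  rw [h4] at h
  have h5 : xg R s u * xg R r t = xg R r t * xg R s u * xg R k (-((C : F) * (t * u))) := Units.ext h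
  rw [h5, mul_assoc, mul_assoc, xg_mul, neg_add_cancel, xg_zero, mul_one]

/-- conjugation -/
theorem cj0 {r s : ℕ} (hr : r < D.nroots) (hs : s < D.nroots) (h1 : s ≠ r) (h2 : s ≠ D.neg r)
    (hC : D.commTerms r s = []) (t u : F) : xg R r t * xg R s u * (xg R r t)⁻¹ = xg R s u := by
  rw [c0 R hr hs h1 h2 hC, mul_inv_cancel_right]

theorem cj1 {r s k : ℕ} {C : ℤ} (hr : r < D.nroots) (hs : s < D.nroots) (h1 : s ≠ r) (h2 : s ≠ D.neg r)
    (hC : D.commTerms r s = [(k, C, 1, 1)]) (t u : F) :
    xg R r t * xg R s u * (xg R r t)⁻¹ = xg R s u * xg R k ((C : F) * (t * u)) := by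
  have h := c1 R hr hs h1 h2 hC (-t) u
  rw [xg_inv]
  have h2 : xg R s u * xg R r (-t) = xg R r (-t) * xg R s u * xg R k ((C : F) * (t * u)) := by
    rw [h, mul_assoc, xg_mul]
    have : (C : F) * (-t * u) + (C : F) * (t * u) = 0 := by ring
    rw [this, xg_zero, mul_one]
  rw [mul_assoc, h2, ← mul_assoc, ← mul_assoc, xg_mul, add_neg_cancel, xg_zero, one_mul]

/-- the data for a simply laced string -/
structure Str (D : ChevalleyDatum) (r s k : ℕ) (C C' : ℤ) : Prop where
  hr : r < D.nroots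
  hs : s < D.nroots
  hk : k < D.nroots
  hn : D.neg r < D.nroots
  nn : D.neg (D.neg r) = r
  sr : s ≠ r
  snr : s ≠ D.neg r
  kr : k ≠ r
  knr : k ≠ D.neg r
  ks : k ≠ s
  kns : k ≠ D.neg s
  c1 : D.commTerms r s = [(k, C, 1, 1)]
  c2 : D.commTerms (D.neg r) k = [(s, C', 1, 1)]
  c3 : D.commTerms (D.neg r) s = []
  c4 : D.commTerms r k = []
  c5 : D.commTerms s k = []
  cc : C * C' = 1

/-- products of three -/
theorem conj3 {G : Type*} [Group G] (a b c x : G) : a * b * c * x * (a * b * c)⁻¹ =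
    a * (b * (c * x * c⁻¹) * b⁻¹) * a⁻¹ := by
  simp only [mul_inv_rev, mul_assoc]

theorem conj_mul' {G : Type*} [Group G] (a x y : G) : a * (x * y) * a⁻¹ = (a * x * a⁻¹) * (a * y * a⁻¹) := by
  simp only [mul_assoc, inv_mul_cancel_left]

variable {r s k : ℕ} {C C' : ℤ} (S : Str D r s k C C')

include S

theorem Str.ccF : (C : F) * (C' : F) = 1 := by
  rw [← Int.cast_mul, S.cc, Int.cast_one]

/-- the four conjugations -/
theorem Str.j1 (t u : F) : xg R r t * xg R s u * (xg R r t)⁻¹ = xg R s u * xg R k ((C : F) * (t * u)) :=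
  cj1 R S.hr S.hs S.sr S.snr S.c1 t u

theorem Str.j2 (t u : F) : xg R (D.neg r) t * xg R k u * (xg R (D.neg r) t)⁻¹ =
    xg R k u * xg R s ((C' : F) * (t * u)) :=
  cj1 R S.hn S.hk S.knr (by rw [S.nn]; exact S.kr) S.c2 t u

theorem Str.j3 (t u : F) : xg R (D.neg r) t * xg R s u * (xg R (D.neg r) t)⁻¹ = xg R s u :=
  cj0 R S.hn S.hs S.snr (by rw [S.nn]; exact S.sr) S.c3 t u

theorem Str.j4 (t u : F) : xg R r t * xg R k u * (xg R r t)⁻¹ = xg R k u :=
  cj0 R S.hr S.hk S.kr S.knr S.c4 t u

theorem Str.j5 (t u : F) : xg R s t * xg R k u = xg R k u * xg R s t :=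
  c0 R S.hs S.hk S.ks S.kns S.c5 t u


/-- the monomial element acting upwards -/
theorem Str.up (e u : F) (he : e * e = 1) : xg R r e * xg R (D.neg r) (-e) * xg R r e * xg R s u *
    (xg R r e * xg R (D.neg r) (-e) * xg R r e)⁻¹ = xg R k ((C : F) * (e * u)) := by
  have hc := S.ccF (F := F)
  rw [conj3, S.j1]
  have h1 : xg R (D.neg r) (-e) * (xg R s u * xg R k ((C : F) * (e * u))) * (xg R (D.neg r) (-e))⁻¹ =
      xg R k ((C : F) * (e * u)) := by
    rw [conj_mul', S.j3, S.j2, ← mul_assoc, S.j5, mul_assoc, xg_mul]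
    have : u + (C' : F) * (-e * ((C : F) * (e * u))) = 0 := by
      linear_combination (-u * e * e) * hc - u * he
    rw [this, xg_zero, mul_one]
  rw [h1, S.j4]

/-- the monomial element acting downwards -/
theorem Str.down (e u : F) (he : e * e = 1) : xg R r e * xg R (D.neg r) (-e) * xg R r e * xg R k u *
    (xg R r e * xg R (D.neg r) (-e) * xg R r e)⁻¹ = xg R s (-((C' : F) * (e * u))) := by
  have hc := S.ccF (F := F)
  rw [conj3, S.j4, S.j2, conj_mul', S.j4, S.j1, S.j5, ← mul_assoc, xg_mul]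
  have h1 : u + (C : F) * (e * ((C' : F) * (-e * u))) = 0 := by
    linear_combination (-u * e * e) * hc - u * he
  rw [h1, xg_zero, one_mul]
  congr 1; ring

/-- the other monomial element acting upwards -/
theorem Str.up' (e u : F) (he : e * e = 1) : xg R (D.neg r) e * xg R r (-e) * xg R (D.neg r) e * xg R s u *
    (xg R (D.neg r) e * xg R r (-e) * xg R (D.neg r) e)⁻¹ = xg R k (-((C : F) * (e * u))) := by
  have hc := S.ccF (F := F)
  rw [conj3, S.j3, S.j1, conj_mul', S.j3, S.j2]
  rw [← mul_assoc, S.j5, mul_assoc, xg_mul]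
  have : u + (C' : F) * (e * ((C : F) * (-e * u))) = 0 := by
    linear_combination (-u * e * e) * hc - u * he
  rw [this, xg_zero, mul_one]
  congr 1; ring

omit S in
theorem ns_eq (i : ℕ) : ns R i = xg R (D.simple i) 1 * xg R (D.neg (D.simple i)) (-1) * xg R (D.simple i) 1 := by
  unfold ns
  rw [ng_def, inv_one]

omit S in
/-- the action of the monomial element on its own root group -/
theorem own (Q : RC D) {i : Fin D.rank} (S : Str D (D.simple i) s k C C')
    (h1 : D.reflectRoot i (D.simple i) = D.neg (D.simple i))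
    (h2 : D.reflectRoot i (D.neg (D.simple i)) = D.simple i) (t : F) :
    ns R i * xg R (D.simple i) t * (ns R i)⁻¹ = xg R (D.neg (D.simple i)) (-t) := by
  obtain ⟨η, ha, hb⟩ := exists_sign R i
  have e1 := fun t => hb (D.simple i) S.hr t
  have e2 := fun t => hb (D.neg (D.simple i)) S.hn t
  rw [h1] at e1
  rw [h2] at e2
  rw [(ha _ S.hr).2] at e2
  rw [e1]
  rcases (ha _ S.hr).1 with h | h
  · rw [h] at e1 e2
    simp only [one_mul] at e1 e2
    have e3 : ns R i = xg R (D.neg (D.simple i)) 1 * xg R (D.simple i) (-1) * xg R (D.neg (D.simple i)) 1 := by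
      calc ns R i = ns R i * (ns R i) * (ns R i)⁻¹ := by rw [mul_inv_cancel_right]
        _ = ns R i * (xg R (D.simple i) 1 * xg R (D.neg (D.simple i)) (-1) * xg R (D.simple i) 1) * (ns R i)⁻¹ := by
          rw [← ns_eq]
        _ = _ := by rw [conj_mul', conj_mul', e1, e2]
    have e4 := S.up R 1 1 (by ring)
    have e5 := S.up' R 1 1 (by ring)
    rw [← e3] at e5
    rw [← ns_eq] at e4
    have e6 := xg_inj R Q S.hk (e4.symm.trans e5)
    have hc := S.ccF (F := F)
    have e7 : (1 : F) = -1 := by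
      linear_combination (C' : F) * e6 - 2 * hc
    rw [h]
    congr 1
    linear_combination t * e7
  · rw [h]; congr 1; ring

end H41.Td6
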