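import Cfsg.Agent.Lib.H41.Td6

/-!
The elements of `³D₄` in the Chevalley group of type `D₄`.
-/

set_option autoImplicit false
set_option linter.unusedSectionVars false

namespace H41.Td7

open H22.ChevRel H22.ChevSys H22.ChevStd H22.RCCheck H22.Coord H41.Td6
open Cfsg.Lie (ChevalleyDatum)
open scoped MatrixGroups Matrix

local notation "D4" => Cfsg.Lie.chevD4
local notation "X4" => H22.PoinD4.rcxD4

/-- root elements -/
noncomputable def x {K : Type*} [Field K] (r : ℕ) (t : K) : GL (D4).Idx K := xg (H22.TwD4.RR K) r t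

/-- check for commuting root elements -/
def okc (r s : ℕ) : Bool := decide (r < (D4).nroots ∧ s < (D4).nroots ∧ s ≠ r ∧ s ≠ (D4).neg r ∧
  (D4).commTerms r s = [])

/-- check for noncommuting root elements -/
def okd (r s k : ℕ) (C : ℤ) : Bool := decide (r < (D4).nroots ∧ s < (D4).nroots ∧ s ≠ r ∧ s ≠ (D4).neg r ∧
  (D4).commTerms r s = [(k, C, 1, 1)])

/-- check for strings -/
def oks (r s k : ℕ) (C C' : ℤ) : Bool := decide (r < (D4).nroots ∧ s < (D4).nroots ∧ k < (D4).nroots ∧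
  (D4).neg r < (D4).nroots ∧ (D4).neg ((D4).neg r) = r ∧ s ≠ r ∧ s ≠ (D4).neg r ∧ k ≠ r ∧ k ≠ (D4).neg r ∧
  k ≠ s ∧ k ≠ (D4).neg s ∧ (D4).commTerms r s = [(k, C, 1, 1)] ∧ (D4).commTerms ((D4).neg r) k = [(s, C', 1, 1)] ∧
  (D4).commTerms ((D4).neg r) s = [] ∧ (D4).commTerms r k = [] ∧ (D4).commTerms s k = [] ∧ C * C' = 1)

theorem str_of {r s k : ℕ} {C C' : ℤ} (h : oks r s k C C' = true) : Str D4 r s k C C' := by
  have h := of_decide_eq_true h
  obtain ⟨h1, h2, h3, h4, h5, h6, h7, h8, h9, h10, h11, h12, h13, h14, h15, h16, h17⟩ := h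
  exact ⟨h1, h2, h3, h4, h5, h6, h7, h8, h9, h10, h11, h12, h13, h14, h15, h16, h17⟩

variable {K : Type*} [Field K]

theorem C0 {r s : ℕ} (h : okc r s = true) (t u : K) : x r t * x s u = x s u * x r t := by
  have h := of_decide_eq_true h
  exact c0 _ h.1 h.2.1 h.2.2.1 h.2.2.2.1 h.2.2.2.2 t u

theorem C1 {r s k : ℕ} {C : ℤ} (h : okd r s k C = true) (t u : K) :
    x r t * x s u = x s u * x r t * x k ((C : K) * (t * u)) := by
  have h := of_decide_eq_true h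
  exact c1 _ h.1 h.2.1 h.2.2.1 h.2.2.2.1 h.2.2.2.2 t u

theorem x_add (r : ℕ) (t u : K) : x r (t + u) = x r t * x r u := (xg_mul _ r t u).symm
theorem x_zero' (r : ℕ) : x r (0 : K) = 1 := xg_zero _ r
theorem x_inv (r : ℕ) (t : K) : (x r t)⁻¹ = x r (-t) := xg_inv _ r t

theorem ok1 : okc 14 19 = true ∧ okc 14 16 = true ∧ okc 14 15 = true ∧ okc 14 17 = true ∧ okc 14 20 = true ∧
    okc 14 21 = true ∧ okc 22 19 = true ∧ okc 22 16 = true ∧ okc 22 15 = true ∧ okc 22 17 = true ∧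
    okc 22 20 = true ∧ okc 22 21 = true ∧ okc 23 14 = true ∧ okc 23 22 = true ∧ okc 23 19 = true ∧
    okc 23 16 = true ∧ okc 23 15 = true ∧ okc 23 17 = true ∧ okc 23 20 = true ∧ okc 23 21 = true ∧
    okc 23 5 = true ∧ okc 23 10 = true ∧ okc 23 11 = true ∧ okc 23 18 = true ∧ okc 23 13 = true ∧
    okc 23 12 = true ∧ okc 22 18 = true ∧ okc 22 13 = true ∧ okc 22 12 = true := by decide +kernel

theorem ok2 : okc 15 19 = true ∧ okc 15 16 = true ∧ okc 16 19 = true ∧ okc 21 17 = true ∧ okc 21 20 = true ∧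
    okc 20 17 = true ∧ okc 12 18 = true ∧ okc 12 13 = true ∧ okc 13 18 = true ∧ okc 11 18 = true ∧
    okc 11 13 = true ∧ okc 10 18 = true ∧ okc 12 5 = true ∧ okc 12 10 = true ∧ okc 13 5 = true ∧
    okc 11 5 = true ∧ okc 11 10 = true ∧ okc 10 5 = true := by decide +kernel

theorem ok3 : okd 22 14 23 (-1) = true ∧ okd 17 19 23 1 = true ∧ okd 20 16 23 1 = true ∧
    okd 21 15 23 1 = true := by decide +kernel

theorem ok4 : okd 5 22 17 (-1) = true ∧ okd 10 22 20 1 = true ∧ okd 11 22 21 1 = true ∧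
    okd 5 20 15 (-1) = true ∧ okd 5 21 16 (-1) = true ∧ okd 10 21 19 1 = true ∧ okd 5 19 14 (-1) = true := by
  decide +kernel

theorem ok5 : oks 14 18 19 1 1 = true ∧ oks 14 13 16 (-1) (-1) = true ∧ oks 14 12 15 (-1) (-1) = true ∧
    oks 14 22 23 1 1 = true := by decide +kernel

theorem ok6 : oks 12 14 15 1 1 = true ∧ oks 13 15 17 1 1 = true ∧ oks 18 17 22 (-1) (-1) = true ∧
    oks 18 14 19 (-1) (-1) = true ∧ oks 13 19 21 1 1 = true ∧ oks 12 21 22 1 1 = true ∧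
    oks 13 14 16 1 1 = true := by decide +kernel

/-- merging products of three commuting elements -/
theorem merge3 {G : Type*} [Group G] {a b c a' b' c' : G} (h1 : c * a' = a' * c) (h2 : b * a' = a' * b)
    (h3 : c * b' = b' * c) : (a * b * c) * (a' * b' * c') = (a * a') * (b * b') * (c * c') := by
  have m : ∀ {x y z : G}, x * y = z → ∀ t, x * (y * t) = z * t := by
    intro x y z h t; rw [← mul_assoc, h]
  simp only [mul_assoc]
  rw [m h1, mul_assoc, m h2, mul_assoc, m h3, mul_assoc]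

section elements

variable (φ : K →+* K)

/-- the elements for `β + γ` -/
noncomputable def eW (t : K) : GL (D4).Idx K := x 19 t * x 16 (-φ t) * x 15 (-φ (φ t))
/-- the elements for `β + 2γ` -/
noncomputable def eU (t : K) : GL (D4).Idx K := x 17 (-t) * x 20 (φ t) * x 21 (φ (φ t))
/-- the elements for `γ` -/
noncomputable def eG (t : K) : GL (D4).Idx K := x 18 t * x 13 (φ t) * x 12 (φ (φ t))
/-- the elements for `-γ` -/
noncomputable def eM (t : K) : GL (D4).Idx K := x 5 t * x 10 (φ t) * x 11 (φ (φ t))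

theorem eW_add (s t : K) : eW φ (s + t) = eW φ s * eW φ t := by
  obtain ⟨o1, o2, o3, -⟩ := ok2
  unfold eW
  rw [merge3 (C0 o1 _ _) (C0 o3 _ _) (C0 o2 _ _), ← x_add, ← x_add, ← x_add]
  simp only [map_add, neg_add]

theorem eU_add (s t : K) : eU φ (s + t) = eU φ s * eU φ t := by
  obtain ⟨-, -, -, o1, o2, o3, -⟩ := ok2
  unfold eU
  rw [merge3 (C0 o1 _ _) (C0 o3 _ _) (C0 o2 _ _), ← x_add, ← x_add, ← x_add]
  simp only [map_add, neg_add]

theorem eG_add (s t : K) : eG φ (s + t) = eG φ s * eG φ t := by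
  obtain ⟨-, -, -, -, -, -, o1, o2, o3, -⟩ := ok2
  unfold eG
  rw [merge3 (C0 o1 _ _) (C0 o3 _ _) (C0 o2 _ _), ← x_add, ← x_add, ← x_add]
  simp only [map_add]

/-- commuting with a product of three -/
theorem comm3 {G : Type*} [Group G] {a b c y : G} (h1 : y * a = a * y) (h2 : y * b = b * y)
    (h3 : y * c = c * y) : y * (a * b * c) = a * b * c * y := by
  rw [← mul_assoc, ← mul_assoc, h1, mul_assoc a, h2, mul_assoc, mul_assoc, h3]
  simp only [mul_assoc]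

theorem cBW (b w : K) : x 14 b * eW φ w = eW φ w * x 14 b :=
  comm3 (C0 ok1.1 _ _) (C0 ok1.2.1 _ _) (C0 ok1.2.2.1 _ _)

theorem cBU (b w : K) : x 14 b * eU φ w = eU φ w * x 14 b := by
  obtain ⟨-, -, -, o1, o2, o3, -⟩ := ok1
  exact comm3 (C0 o1 _ _) (C0 o2 _ _) (C0 o3 _ _)

theorem cAW (b w : K) : x 22 b * eW φ w = eW φ w * x 22 b := by
  obtain ⟨-, -, -, -, -, -, o1, o2, o3, -⟩ := ok1
  exact comm3 (C0 o1 _ _) (C0 o2 _ _) (C0 o3 _ _)

theorem cAU (b w : K) : x 22 b * eU φ w = eU φ w * x 22 b := by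
  obtain ⟨-, -, -, -, -, -, -, -, -, o1, o2, o3, -⟩ := ok1
  exact comm3 (C0 o1 _ _) (C0 o2 _ _) (C0 o3 _ _)

theorem cRB (b w : K) : x 23 b * x 14 w = x 14 w * x 23 b := by
  obtain ⟨-, -, -, -, -, -, -, -, -, -, -, -, o1, o2, -⟩ := ok1
  exact C0 o1 _ _

theorem cRA (b w : K) : x 23 b * x 22 w = x 22 w * x 23 b := by
  obtain ⟨-, -, -, -, -, -, -, -, -, -, -, -, o1, o2, -⟩ := ok1
  exact C0 o2 _ _

theorem cRW (b w : K) : x 23 b * eW φ w = eW φ w * x 23 b := by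
  obtain ⟨-, -, -, -, -, -, -, -, -, -, -, -, -, -, o1, o2, o3, -⟩ := ok1
  exact comm3 (C0 o1 _ _) (C0 o2 _ _) (C0 o3 _ _)

theorem cRU (b w : K) : x 23 b * eU φ w = eU φ w * x 23 b := by
  obtain ⟨-, -, -, -, -, -, -, -, -, -, -, -, -, -, -, -, -, o1, o2, o3, -⟩ := ok1
  exact comm3 (C0 o1 _ _) (C0 o2 _ _) (C0 o3 _ _)

theorem cRM (b w : K) : x 23 b * eM φ w = eM φ w * x 23 b := by
  obtain ⟨-, -, -, -, -, -, -, -, -, -, -, -, -, -, -, -, -, -, -, -, o1, o2, o3, -⟩ := ok1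
  exact comm3 (C0 o1 _ _) (C0 o2 _ _) (C0 o3 _ _)

theorem cRG (b w : K) : x 23 b * eG φ w = eG φ w * x 23 b := by
  obtain ⟨-, -, -, -, -, -, -, -, -, -, -, -, -, -, -, -, -, -, -, -, -, -, -, o1, o2, o3, -⟩ := ok1
  exact comm3 (C0 o1 _ _) (C0 o2 _ _) (C0 o3 _ _)

theorem cAG (b w : K) : x 22 b * eG φ w = eG φ w * x 22 b := by
  obtain ⟨-, -, -, -, -, -, -, -, -, -, -, -, -, -, -, -, -, -, -, -, -, -, -, -, -, -, o1, o2, o3⟩ := ok1
  exact comm3 (C0 o1 _ _) (C0 o2 _ _) (C0 o3 _ _)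

theorem cAB (a b : K) : x 22 a * x 14 b = x 14 b * x 22 a * x 23 (-1 * (a * b)) := by
  have := C1 ok3.1 a b
  rwa [Int.cast_neg, Int.cast_one] at this

/-- the Heisenberg commutator -/
theorem cUW (u w : K) : eU φ u * eW φ w = eW φ w * eU φ u *
    x 23 (-1 * (u * w + φ (u * w) + φ (φ (u * w)))) := by
  obtain ⟨-, o1, o2, o3⟩ := ok3
  obtain ⟨-, -, -, -, -, -, -, -, -, -, -, -, -, -, r1, r2, r3, r4, r5, r6, -⟩ := ok1
  have q1 : okc 17 16 = true ∧ okc 17 15 = true ∧ okc 20 19 = true ∧ okc 20 15 = true ∧ okc 21 19 = true ∧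
    okc 21 16 = true := by decide +kernel
  obtain ⟨q1, q2, q3, q4, q5, q6⟩ := q1
  have m : ∀ {x y z : GL (D4).Idx K}, x * y = z → ∀ t, x * (y * t) = z * t := by
    intro x y z h t; rw [← mul_assoc, h]
  have e1 := C1 o1 (-u) w
  have e2 := C1 o2 (φ u) (-φ w)
  have e3 := C1 o3 (φ (φ u)) (-φ (φ w))
  rw [Int.cast_one, one_mul] at e1 e2 e3
  unfold eU eW
  have f1 := C0 q1 (-u) (-φ w)
  have f2 := C0 q2 (-u) (-φ (φ w))
  have f3 := C0 q3 (φ u) w
  have f4 := C0 q4 (φ u) (-φ (φ w))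
  have f5 := C0 q5 (φ (φ u)) w
  have f6 := C0 q6 (φ (φ u)) (-φ w)
  have z1 : x 23 (-1 * (u * w + φ (u * w) + φ (φ (u * w)))) = x 23 (-u * w) * x 23 (φ u * -φ w) *
      x 23 (φ (φ u) * -φ (φ w)) := by
    rw [← x_add, ← x_add]
    congr 1
    simp only [map_mul]
    ring
  rw [z1]
  have g1 := fun t u => C0 (K := K) r1 t u
  have g2 := fun t u => C0 (K := K) r2 t u
  have g3 := fun t u => C0 (K := K) r3 t u
  have g4 := fun t u => C0 (K := K) r4 t u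
  have g5 := fun t u => C0 (K := K) r5 t u
  have g6 := fun t u => C0 (K := K) r6 t u
  simp only [mul_assoc]
  rw [m f5, mul_assoc, m f3, mul_assoc, m e1, mul_assoc, mul_assoc]
  congr 1
  rw [m f6, mul_assoc, m e2, mul_assoc, mul_assoc, m (g2 _ _), mul_assoc, m f1, mul_assoc]
  congr 1
  rw [e3, mul_assoc, m (g3 _ _), mul_assoc]
  rw [m (g5 _ _)]
  simp only [mul_assoc]
  rw [m (g3 _ _), mul_assoc, m f4, mul_assoc, m f2, mul_assoc]
  congr 3
  rw [m (g6 _ _), mul_assoc, m (g6 _ _), mul_assoc]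

/-- reordering a product -/
theorem reorder {G : Type*} [Group G] {a22 a17 a20 a15 a21 a16 a19 a14 r1 r2 r3 : G}
    (h1 : a22 * a14 = a14 * a22 * r1) (h2 : a17 * a19 = a19 * a17 * r2) (h3 : a20 * a16 = a16 * a20 * r3)
    (d1 : Commute a14 a17) (d2 : Commute a14 a20) (d3 : Commute a14 a15) (d4 : Commute a14 a21)
    (d5 : Commute a14 a16) (d6 : Commute a14 a19) (f1 : Commute a22 a17) (f2 : Commute a22 a20)
    (f3 : Commute a22 a15) (f4 : Commute a22 a21) (f5 : Commute a22 a16) (f6 : Commute a22 a19)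
    (g1 : Commute a19 a20) (g2 : Commute a19 a15) (g3 : Commute a19 a21) (g4 : Commute a19 a16)
    (k1 : Commute a16 a21) (k2 : Commute a16 a15) (k3 : Commute a17 a16) (k4 : Commute a15 a20)
    (k5 : Commute a15 a17)
    (hr : ∀ r, r = r1 ∨ r = r2 ∨ r = r3 → Commute r a17 ∧ Commute r a20 ∧ Commute r a15 ∧ Commute r a21 ∧
      Commute r a16 ∧ Commute r a19 ∧ Commute r a22) :
    (a22 * a17) * (a20 * a15) * ((a21 * a16) * (a19 * a14)) =
      a14 * (a19 * a16 * a15) * (a17 * a20 * a21) * a22 * (r3 * r2 * r1) := by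
  obtain ⟨p1, p2, p3, p4, p5, p6, p7⟩ := hr r1 (Or.inl rfl)
  obtain ⟨s1, s2, s3, s4, s5, s6, s7⟩ := hr r2 (Or.inr (Or.inl rfl))
  obtain ⟨t1, t2, t3, t4, t5, t6, t7⟩ := hr r3 (Or.inr (Or.inr rfl))
  have e1 : a17 * a20 * a15 * a21 * a16 = a16 * a15 * (a17 * a20 * a21) * r3 := by
    calc a17 * a20 * a15 * a21 * a16 = a17 * a20 * (a15 * a21 * a16) := by simp only [mul_assoc]
      _ = a17 * a20 * (a16 * (a15 * a21)) := by rw [((k2.mul_right k1).eq).symm]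
      _ = a17 * (a20 * a16) * (a15 * a21) := by simp only [mul_assoc]
      _ = a17 * (a16 * a20 * r3) * (a15 * a21) := by rw [h3]
      _ = (a17 * a16) * a20 * (r3 * (a15 * a21)) := by simp only [mul_assoc]
      _ = (a16 * a17) * a20 * ((a15 * a21) * r3) := by rw [k3.eq, (t3.mul_right t4).eq]
      _ = a16 * (a17 * a20 * a15) * a21 * r3 := by simp only [mul_assoc]
      _ = a16 * (a15 * (a17 * a20)) * a21 * r3 := by rw [(k5.mul_right k4).eq]
      _ = _ := by simp only [mul_assoc]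
  have e2 : a17 * a20 * a15 * a21 * a16 * a19 = a19 * a16 * a15 * (a17 * a20 * a21) * (r3 * r2) := by
    calc a17 * a20 * a15 * a21 * a16 * a19 = a17 * (a20 * a15 * a21 * a16 * a19) := by simp only [mul_assoc]
      _ = a17 * (a19 * (a20 * a15 * a21 * a16)) := by
        rw [((((g1.mul_right g2).mul_right g3).mul_right g4).eq).symm]
      _ = (a17 * a19) * (a20 * a15 * a21 * a16) := by simp only [mul_assoc]
      _ = (a19 * a17) * (r2 * (a20 * a15 * a21 * a16)) := by rw [h2]; simp only [mul_assoc]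
      _ = (a19 * a17) * ((a20 * a15 * a21 * a16) * r2) := by
        rw [(((s2.mul_right s3).mul_right s4).mul_right s5).eq]
      _ = a19 * (a17 * a20 * a15 * a21 * a16) * r2 := by simp only [mul_assoc]
      _ = _ := by rw [e1]; simp only [mul_assoc]
  have c14 : Commute a14 (a17 * a20 * a15 * a21 * a16 * a19) :=
    ((((d1.mul_right d2).mul_right d3).mul_right d4).mul_right d5).mul_right d6
  have c22 : Commute a22 (a17 * a20 * a15 * a21 * a16 * a19) :=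
    ((((f1.mul_right f2).mul_right f3).mul_right f4).mul_right f5).mul_right f6
  have cr1 : Commute r1 (a17 * a20 * a15 * a21 * a16 * a19) :=
    ((((p1.mul_right p2).mul_right p3).mul_right p4).mul_right p5).mul_right p6
  calc (a22 * a17) * (a20 * a15) * ((a21 * a16) * (a19 * a14)) =
      a22 * ((a17 * a20 * a15 * a21 * a16 * a19) * a14) := by simp only [mul_assoc]
    _ = a22 * a14 * (a17 * a20 * a15 * a21 * a16 * a19) := by rw [c14.eq.symm, ← mul_assoc]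
    _ = a14 * a22 * (r1 * (a17 * a20 * a15 * a21 * a16 * a19)) := by rw [h1, mul_assoc]
    _ = a14 * (a22 * (a17 * a20 * a15 * a21 * a16 * a19)) * r1 := by rw [cr1.eq]; simp only [mul_assoc]
    _ = a14 * (a17 * a20 * a15 * a21 * a16 * a19) * (a22 * r1) := by rw [c22.eq]; simp only [mul_assoc]
    _ = a14 * (a19 * a16 * a15) * (a17 * a20 * a21) * ((r3 * r2) * a22) * r1 := by
      rw [e2]; simp only [mul_assoc]
    _ = a14 * (a19 * a16 * a15) * (a17 * a20 * a21) * (a22 * (r3 * r2)) * r1 := by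
      rw [(t7.mul_left s7).eq]
    _ = _ := by simp only [mul_assoc]

theorem ok7 : okc 14 17 = true ∧ okc 14 20 = true ∧ okc 14 15 = true ∧ okc 14 21 = true ∧ okc 14 16 = true ∧
    okc 14 19 = true ∧ okc 22 17 = true ∧ okc 22 20 = true ∧ okc 22 15 = true ∧ okc 22 21 = true ∧
    okc 22 16 = true ∧ okc 22 19 = true ∧ okc 19 20 = true ∧ okc 19 15 = true ∧ okc 19 21 = true ∧
    okc 19 16 = true ∧ okc 16 21 = true ∧ okc 16 15 = true ∧ okc 17 16 = true ∧ okc 15 20 = true ∧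
    okc 15 17 = true := by decide +kernel

theorem ok8 : okc 23 17 = true ∧ okc 23 20 = true ∧ okc 23 15 = true ∧ okc 23 21 = true ∧ okc 23 16 = true ∧
    okc 23 19 = true ∧ okc 23 22 = true := by decide +kernel

/-- conjugation of the root group of `α` by the one of `-γ` -/
theorem conjM (h3 : ∀ t : K, φ (φ (φ t)) = t) (t a : K) (ha : φ a = a) :
    eM φ t * x 22 a * (eM φ t)⁻¹ = x 14 (-1 * (a * (t * φ t * φ (φ t)))) * eW φ (a * (φ t * φ (φ t))) *
      eU φ (a * t) * x 22 a * x 23 (-1 * (a * a * (t * φ t * φ (φ t)))) := by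
  have hs : ∀ (r s k : ℕ) (C : ℤ), okd r s k C = true → ∀ t u : K,
      x r t * x s u * (x r t)⁻¹ = x s u * x k ((C : K) * (t * u)) := by
    intro r s k C h t u
    have h := of_decide_eq_true h
    exact cj1 _ h.1 h.2.1 h.2.2.1 h.2.2.2.1 h.2.2.2.2 t u
  obtain ⟨w1, w2, w3, w4, w5, w6, w7⟩ := ok4
  have v1 := hs _ _ _ _ w1
  have v2 := hs _ _ _ _ w2
  have v3 := hs _ _ _ _ w3
  have v4 := hs _ _ _ _ w4
  have v5 := hs _ _ _ _ w5
  have v6 := hs _ _ _ _ w6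
  have v7 := hs _ _ _ _ w7
  have e0 : eM φ t * x 22 a * (eM φ t)⁻¹ = x 5 t * (x 10 (φ t) * (x 11 (φ (φ t)) * x 22 a *
      (x 11 (φ (φ t)))⁻¹) * (x 10 (φ t))⁻¹) * (x 5 t)⁻¹ := by
    unfold eM
    exact conj3 _ _ _ _
  rw [e0, v3, conj_mul' (x 10 (φ t)) (x 22 a), v2, v6, conj_mul' (x 5 t) (x 22 a * _),
    conj_mul' (x 5 t) (x 22 a), conj_mul' (x 5 t) (x 21 _), v1, v4, v5, v7]
  obtain ⟨d1, d2, d3, d4, d5, d6, f1, f2, f3, f4, f5, f6, g1, g2, g3, g4, k1, k2, k3, k4, k5⟩ := ok7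
  obtain ⟨r1, r2, r3, r4, r5, r6, r7⟩ := ok8
  obtain ⟨o1, o2, o3, o4⟩ := ok3
  have hre := reorder (a22 := x 22 a) (a17 := x 17 (((-1 : ℤ) : K) * (t * a)))
    (a20 := x 20 (((1 : ℤ) : K) * (φ t * a))) (a15 := x 15 (((-1 : ℤ) : K) * (t * (((1 : ℤ) : K) * (φ t * a)))))
    (a21 := x 21 (((1 : ℤ) : K) * (φ (φ t) * a)))
    (a16 := x 16 (((-1 : ℤ) : K) * (t * (((1 : ℤ) : K) * (φ (φ t) * a)))))
    (a19 := x 19 (((1 : ℤ) : K) * (φ t * (((1 : ℤ) : K) * (φ (φ t) * a)))))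
    (a14 := x 14 (((-1 : ℤ) : K) * (t * (((1 : ℤ) : K) * (φ t * (((1 : ℤ) : K) * (φ (φ t) * a)))))))
    (C1 o1 _ _) (C1 o2 _ _) (C1 o3 _ _) (C0 d1 _ _) (C0 d2 _ _) (C0 d3 _ _) (C0 d4 _ _) (C0 d5 _ _) (C0 d6 _ _)
    (C0 f1 _ _) (C0 f2 _ _) (C0 f3 _ _) (C0 f4 _ _) (C0 f5 _ _) (C0 f6 _ _) (C0 g1 _ _) (C0 g2 _ _)
    (C0 g3 _ _) (C0 g4 _ _) (C0 k1 _ _) (C0 k2 _ _) (C0 k3 _ _) (C0 k4 _ _) (C0 k5 _ _) (by
      rintro r (rfl | rfl | rfl)
      · exact ⟨C0 r1 _ _, C0 r2 _ _, C0 r3 _ _, C0 r4 _ _, C0 r5 _ _, C0 r6 _ _, C0 r7 _ _⟩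
      · exact ⟨C0 r1 _ _, C0 r2 _ _, C0 r3 _ _, C0 r4 _ _, C0 r5 _ _, C0 r6 _ _, C0 r7 _ _⟩
      · exact ⟨C0 r1 _ _, C0 r2 _ _, C0 r3 _ _, C0 r4 _ _, C0 r5 _ _, C0 r6 _ _, C0 r7 _ _⟩)
  refine hre.trans ?_
  rw [← x_add, ← x_add]
  unfold eW eU
  simp only [map_mul, ha, h3]
  have key : ∀ {b14 b14' b19 b19' b16 b16' b15 b15' b17 b17' b20 b20' b21 b21' b22 b23 b23' : K},
      b14 = b14' → b19 = b19' → b16 = b16' → b15 = b15' → b17 = b17' → b20 = b20' → b21 = b21' → b23 = b23' →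
      x 14 b14 * (x 19 b19 * x 16 b16 * x 15 b15) * (x 17 b17 * x 20 b20 * x 21 b21) * x 22 b22 * x 23 b23 =
      x 14 b14' * (x 19 b19' * x 16 b16' * x 15 b15') * (x 17 b17' * x 20 b20' * x 21 b21') * x 22 b22 * x 23 b23' := by
    rintro _ _ _ _ _ _ _ _ _ _ _ _ _ _ _ _ _ rfl rfl rfl rfl rfl rfl rfl rfl
    rfl
  apply key <;> (push_cast; ring)

end elements

end H41.Td7
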