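import Cfsg.Agent.Lib.H41.Td7

/-!
The monomial and torus elements of `³D₄`.
-/

set_option autoImplicit false
set_option linter.unusedSectionVars false

namespace H41.Td8

open H22.ChevRel H22.ChevSys H22.ChevStd H22.RCCheck H22.Coord H41.Td6 H41.Td7
open Cfsg.Lie (ChevalleyDatum)
open scoped MatrixGroups Matrix

local notation "D4" => Cfsg.Lie.chevD4
local notation "X4" => H22.PoinD4.rcxD4

variable {K : Type*} [Field K]

/-- monomial elements -/
noncomputable def nr (K : Type*) [Field K] (r : ℕ) : GL (D4).Idx K := x r 1 * x ((D4).neg r) (-1) * x r 1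

theorem nr_up {r s k : ℕ} {C C' : ℤ} (h : oks r s k C C' = true) (u : K) :
    nr K r * x s u * (nr K r)⁻¹ = x k ((C : K) * u) := by
  have := (str_of h).up (H22.TwD4.RR K) 1 u (one_mul 1)
  rw [one_mul] at this
  exact this

theorem nr_down {r s k : ℕ} {C C' : ℤ} (h : oks r s k C C' = true) (u : K) :
    nr K r * x k u * (nr K r)⁻¹ = x s (-((C' : K) * u)) := by
  have := (str_of h).down (H22.TwD4.RR K) 1 u (one_mul 1)
  rw [one_mul] at this
  exact this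

theorem nr_comm {r s : ℕ} (h : okc r s = true) (h' : okc ((D4).neg r) s = true) (u : K) :
    nr K r * x s u * (nr K r)⁻¹ = x s u := by
  rw [mul_inv_eq_iff_eq_mul]
  unfold nr
  exact (comm3 (C0 h 1 u).symm (C0 h' (-1) u).symm (C0 h 1 u).symm).symm

theorem nr_eq_ns (i : Fin (D4).rank) : nr K ((D4).simple i) = ns (H22.TwD4.RR K) i := (ns_eq _ _).symm

theorem own18 (t : K) : nr K 18 * x 18 t * (nr K 18)⁻¹ = x 5 (-t) := by
  have h := own (H22.TwD4.RR K) (X4).rc (i := (0 : Fin 4)) (str_of (r := 18) (s := 14) (k := 19)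
    (C := -1) (C' := -1) ok6.2.2.2.1) (by decide +kernel) (by decide +kernel) t
  rw [ns_eq] at h
  exact h

theorem own13 (t : K) : nr K 13 * x 13 t * (nr K 13)⁻¹ = x 10 (-t) := by
  have h := own (H22.TwD4.RR K) (X4).rc (i := (2 : Fin 4)) (str_of (r := 13) (s := 14) (k := 16)
    (C := 1) (C' := 1) ok6.2.2.2.2.2.2) (by decide +kernel) (by decide +kernel) t
  rw [ns_eq] at h
  exact h

theorem own12 (t : K) : nr K 12 * x 12 t * (nr K 12)⁻¹ = x 11 (-t) := by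
  have h := own (H22.TwD4.RR K) (X4).rc (i := (3 : Fin 4)) (str_of (r := 12) (s := 14) (k := 15)
    (C := 1) (C' := 1) ok6.1) (by decide +kernel) (by decide +kernel) t
  rw [ns_eq] at h
  exact h

theorem own14 (t : K) : nr K 14 * x 14 t * (nr K 14)⁻¹ = x 9 (-t) := by
  have h := own (H22.TwD4.RR K) (X4).rc (i := (1 : Fin 4)) (str_of (r := 14) (s := 18) (k := 19)
    (C := 1) (C' := 1) ok5.1) (by decide +kernel) (by decide +kernel) t
  rw [ns_eq] at h
  exact h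

theorem conj_to {G : Type*} [Group G] {n y z : G} (h : n * y * n⁻¹ = z) : z * n = n * y := by
  rw [← h, inv_mul_cancel_right]

theorem okx : okc 18 13 = true ∧ okc 18 12 = true ∧ okc 13 18 = true ∧ okc 13 12 = true ∧ okc 12 18 = true ∧
    okc 12 13 = true ∧ okc 5 13 = true ∧ okc 5 12 = true ∧ okc 10 18 = true ∧ okc 10 12 = true ∧
    okc 11 18 = true ∧ okc 11 13 = true ∧ okc 18 10 = true ∧ okc 5 10 = true ∧ okc 18 11 = true ∧
    okc 5 11 = true ∧ okc 13 11 = true ∧ okc 10 11 = true ∧ okc 18 23 = true ∧ okc 5 23 = true ∧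
    okc 13 23 = true ∧ okc 10 23 = true ∧ okc 12 23 = true ∧ okc 11 23 = true ∧ okc 12 5 = true ∧
    okc 12 10 = true ∧ okc 13 5 = true ∧ okc 11 5 = true ∧ okc 11 10 = true ∧ okc 10 5 = true := by decide +kernel

/-- the monomial element of `γ` -/
noncomputable def nG (K : Type*) [Field K] : GL (D4).Idx K := nr K 18 * nr K 13 * nr K 12

theorem nG_conj (y : GL (D4).Idx K) : nG K * y * (nG K)⁻¹ =
    nr K 18 * (nr K 13 * (nr K 12 * y * (nr K 12)⁻¹) * (nr K 13)⁻¹) * (nr K 18)⁻¹ := conj3 _ _ _ _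

theorem nG_B (b : K) : nG K * x 14 b * (nG K)⁻¹ = x 22 (-b) := by
  obtain ⟨o1, o2, o3, o4, o5, o6, -⟩ := ok6
  rw [nG_conj, nr_up o1, nr_up o2, nr_up o3]
  congr 1; push_cast; ring

theorem nG_A (a : K) : nG K * x 22 a * (nG K)⁻¹ = x 14 a := by
  obtain ⟨o1, o2, o3, o4, o5, o6, -⟩ := ok6
  rw [nG_conj, nr_down o6, nr_down o5, nr_down o4]
  congr 1; push_cast; ring

theorem nG_R (c : K) : nG K * x 23 c * (nG K)⁻¹ = x 23 c := by
  obtain ⟨-, -, -, -, -, -, -, -, -, -, -, -, -, -, -, -, -, -, o1, o2, o3, o4, o5, o6, -⟩ := okx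
  rw [nG_conj, nr_comm o5 o6, nr_comm o3 o4, nr_comm o1 o2]

theorem nB_A (a : K) : nr K 14 * x 22 a * (nr K 14)⁻¹ = x 23 a := by
  rw [nr_up ok5.2.2.2, Int.cast_one, one_mul]

theorem nB_R (a : K) : nr K 14 * x 23 a * (nr K 14)⁻¹ = x 22 (-a) := by
  rw [nr_down ok5.2.2.2, Int.cast_one, one_mul]

variable (φ : K →+* K)

theorem nG_G (t : K) : nG K * eG φ t * (nG K)⁻¹ = eM φ (-t) := by
  obtain ⟨q1, q2, q3, q4, q5, q6, q7, q8, q9, q10, q11, q12, q13, q14, q15, q16, q17, q18, -⟩ := okx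
  have e1 : nG K * x 18 t * (nG K)⁻¹ = x 5 (-t) := by
    rw [nG_conj, nr_comm q5 q11, nr_comm q3 q9, own18]
  have e2 : nG K * x 13 (φ t) * (nG K)⁻¹ = x 10 (-φ t) := by
    rw [nG_conj, nr_comm q6 q12, own13, nr_comm q13 q14]
  have e3 : nG K * x 12 (φ (φ t)) * (nG K)⁻¹ = x 11 (-φ (φ t)) := by
    rw [nG_conj, own12, nr_comm q17 q18, nr_comm q15 q16]
  unfold eG eM
  rw [conj_mul' (nG K) (x 18 t * _), conj_mul' (nG K) (x 18 t), e1, e2, e3]
  simp only [map_neg]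

theorem nB_G (t : K) : nr K 14 * eG φ t * (nr K 14)⁻¹ = eW φ t := by
  obtain ⟨o1, o2, o3, o4⟩ := ok5
  unfold eG eW
  rw [conj_mul' (nr K 14) (x 18 t * _), conj_mul' (nr K 14) (x 18 t), nr_up o1, nr_up o2, nr_up o3]
  congr 1
  · congr 1
    · congr 1; push_cast; ring
    · congr 1; push_cast; ring
  · congr 1; push_cast; ring

/-- general monomial elements as products -/
theorem tri_eq {G : Type*} [Group G] {a a' b b' c c' d e f : G}
    (h1 : Commute c a') (h2 : Commute b a') (h3 : Commute c b') (g1 : Commute c' d) (g2 : Commute b' d)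
    (g3 : Commute c' e) (g4 : Commute c d) (g5 : Commute b d) (g6 : Commute c e) :
    (a * a' * d) * (b * b' * e) * (c * c' * f) = (a * b * c) * (a' * b' * c') * (d * e * f) := by
  rw [merge3 h1.eq h2.eq h3.eq, merge3 (g4.mul_left g1).eq (g5.mul_left g2).eq (g6.mul_left g3).eq]

theorem nG_eq : nG K = eG φ 1 * eM φ (-1) * eG φ 1 := by
  obtain ⟨q1, q2, q3, q4, q5, q6, q7, q8, q9, q10, q11, q12, q13, q14, q15, q16, q17, q18, -, -, -, -, -, -,
    q19, q20, q21, -⟩ := okx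
  unfold nG nr eG eM
  have e1 : (D4).neg 18 = 5 := rfl
  have e2 : (D4).neg 13 = 10 := rfl
  have e3 : (D4).neg 12 = 11 := rfl
  rw [e1, e2, e3]
  simp only [map_neg, map_one]
  exact tri_eq (C0 q19 _ _) (C0 q21 _ _) (C0 q20 _ _) (C0 q11 _ _) (C0 q9 _ _) (C0 q12 _ _)
    (C0 q5 _ _) (C0 q3 _ _) (C0 q6 _ _)

/-- the torus element of `γ` -/
noncomputable def hG (t : K) : GL (D4).Idx K :=
  hs (H22.TwD4.RR K) 0 t * hs (H22.TwD4.RR K) 2 (φ t) * hs (H22.TwD4.RR K) 3 (φ (φ t))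

theorem hs_eq {i r : ℕ} (h : (D4).simple i = r) (t : K) : hs (H22.TwD4.RR K) i t =
    (x r t * x ((D4).neg r) (-t⁻¹) * x r t) * (x r (-1) * x ((D4).neg r) 1 * x r (-1)) := by
  unfold hs
  rw [h, hg_def, ng_def, ng_def]
  have : -(-1 : K)⁻¹ = 1 := by rw [inv_neg, inv_one, neg_neg]
  rw [this]
  rfl

theorem hG_eq (t : K) : hG φ t = (eG φ t * eM φ (-t⁻¹) * eG φ t) * (eG φ (-1) * eM φ 1 * eG φ (-1)) := by
  obtain ⟨q1, q2, q3, q4, q5, q6, q7, q8, q9, q10, q11, q12, q13, q14, q15, q16, q17, q18, -, -, -, -, -, -,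
    q19, q20, q21, q22, q23, q24⟩ := okx
  unfold hG
  rw [hs_eq (i := 0) (r := 18) rfl, hs_eq (i := 2) (r := 13) rfl, hs_eq (i := 3) (r := 12) rfl]
  have e1 : (D4).neg 18 = 5 := rfl
  have e2 : (D4).neg 13 = 10 := rfl
  have e3 : (D4).neg 12 = 11 := rfl
  rw [e1, e2, e3]
  have f1 : eG φ t * eM φ (-t⁻¹) * eG φ t = (x 18 t * x 5 (-t⁻¹) * x 18 t) *
      (x 13 (φ t) * x 10 (-(φ t)⁻¹) * x 13 (φ t)) * (x 12 (φ (φ t)) * x 11 (-(φ (φ t))⁻¹) * x 12 (φ (φ t))) := by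
    unfold eG eM
    simp only [map_neg, map_inv₀]
    exact (tri_eq (C0 q19 _ _) (C0 q21 _ _) (C0 q20 _ _) (C0 q11 _ _) (C0 q9 _ _) (C0 q12 _ _)
      (C0 q5 _ _) (C0 q3 _ _) (C0 q6 _ _)).symm
  have f2 : eG φ (-1) * eM φ 1 * eG φ (-1) = (x 18 (-1) * x 5 1 * x 18 (-1)) *
      (x 13 (-1) * x 10 1 * x 13 (-1)) * (x 12 (-1) * x 11 1 * x 12 (-1)) := by
    unfold eG eM
    simp only [map_neg, map_one]
    exact (tri_eq (C0 q19 _ _) (C0 q21 _ _) (C0 q20 _ _) (C0 q11 _ _) (C0 q9 _ _) (C0 q12 _ _)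
      (C0 q5 _ _) (C0 q3 _ _) (C0 q6 _ _)).symm
  rw [f1, f2]
  have c1 : ∀ (a b : K), Commute (x 12 a) (x 18 b) := C0 q5
  have c2 : ∀ (a b : K), Commute (x 12 a) (x 5 b) := C0 q19
  have c3 : ∀ (a b : K), Commute (x 11 a) (x 18 b) := C0 q11
  have c4 : ∀ (a b : K), Commute (x 11 a) (x 5 b) := C0 q22
  have c5 : ∀ (a b : K), Commute (x 13 a) (x 18 b) := C0 q3
  have c6 : ∀ (a b : K), Commute (x 13 a) (x 5 b) := C0 q21
  have c7 : ∀ (a b : K), Commute (x 10 a) (x 18 b) := C0 q9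
  have c8 : ∀ (a b : K), Commute (x 10 a) (x 5 b) := C0 q24
  have c9 : ∀ (a b : K), Commute (x 12 a) (x 13 b) := C0 q6
  have c10 : ∀ (a b : K), Commute (x 12 a) (x 10 b) := C0 q20
  have c11 : ∀ (a b : K), Commute (x 11 a) (x 13 b) := C0 q12
  have c12 : ∀ (a b : K), Commute (x 11 a) (x 10 b) := C0 q23
  exact (merge3
    (((((c1 _ _).mul_right (c2 _ _)).mul_right (c1 _ _)).mul_left
      (((c3 _ _).mul_right (c4 _ _)).mul_right (c3 _ _))).mul_left
      (((c1 _ _).mul_right (c2 _ _)).mul_right (c1 _ _))).eq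
    (((((c5 _ _).mul_right (c6 _ _)).mul_right (c5 _ _)).mul_left
      (((c7 _ _).mul_right (c8 _ _)).mul_right (c7 _ _))).mul_left
      (((c5 _ _).mul_right (c6 _ _)).mul_right (c5 _ _))).eq
    (((((c9 _ _).mul_right (c10 _ _)).mul_right (c9 _ _)).mul_left
      (((c11 _ _).mul_right (c12 _ _)).mul_right (c11 _ _))).mul_left
      (((c9 _ _).mul_right (c10 _ _)).mul_right (c9 _ _))).eq).symm

theorem hG_conj {t : K} (ht : t ≠ 0) {s : ℕ} (hs' : s < (D4).nroots) (a : K) :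
    hG φ t * x s a * (hG φ t)⁻¹ =
      x s (t ^ (D4).cartan 0 s * (φ t ^ (D4).cartan 2 s * (φ (φ t) ^ (D4).cartan 3 s * a))) := by
  have h1 : φ t ≠ 0 := by simpa using ht
  have h2 : φ (φ t) ≠ 0 := by simpa using h1
  unfold hG
  rw [conj3]
  unfold x
  rw [hs_conj (H22.TwD4.RR K) (show 3 < (D4).rank by decide) h2 hs' (X4).rc,
    hs_conj (H22.TwD4.RR K) (show 2 < (D4).rank by decide) h1 hs' (X4).rc,
    hs_conj (H22.TwD4.RR K) (show 0 < (D4).rank by decide) ht hs' (X4).rc]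

theorem hG14 {t : K} (ht : t ≠ 0) (a : K) : hG φ t * x 14 a * (hG φ t)⁻¹ = x 14 ((t * φ t * φ (φ t))⁻¹ * a) := by
  have h1 : φ t ≠ 0 := by simpa using ht
  have h2 : φ (φ t) ≠ 0 := by simpa using h1
  rw [hG_conj φ ht (by decide)]
  have e0 : (D4).cartan 0 14 = -1 := by decide +kernel
  have e1 : (D4).cartan 2 14 = -1 := by decide +kernel
  have e2 : (D4).cartan 3 14 = -1 := by decide +kernel
  rw [e0, e1, e2]
  congr 1
  simp only [zpow_neg, zpow_one, mul_inv]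
  ring

theorem hG22 {t : K} (ht : t ≠ 0) (a : K) : hG φ t * x 22 a * (hG φ t)⁻¹ = x 22 ((t * φ t * φ (φ t)) * a) := by
  rw [hG_conj φ ht (by decide)]
  have e0 : (D4).cartan 0 22 = 1 := by decide +kernel
  have e1 : (D4).cartan 2 22 = 1 := by decide +kernel
  have e2 : (D4).cartan 3 22 = 1 := by decide +kernel
  rw [e0, e1, e2]
  congr 1
  simp only [zpow_one]
  ring

theorem hG23 {t : K} (ht : t ≠ 0) (a : K) : hG φ t * x 23 a * (hG φ t)⁻¹ = x 23 a := by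
  rw [hG_conj φ ht (by decide)]
  have e0 : (D4).cartan 0 23 = 0 := by decide +kernel
  have e1 : (D4).cartan 2 23 = 0 := by decide +kernel
  have e2 : (D4).cartan 3 23 = 0 := by decide +kernel
  rw [e0, e1, e2]
  congr 1
  simp only [zpow_zero, one_mul]

theorem hB23 {c : K} (hc : c ≠ 0) (a : K) : hs (H22.TwD4.RR K) 1 c * x 23 a * (hs (H22.TwD4.RR K) 1 c)⁻¹ =
    x 23 (c * a) := by
  unfold x
  rw [hs_conj (H22.TwD4.RR K) (show 1 < (D4).rank by decide) hc (by decide) (X4).rc]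
  have e0 : (D4).cartan 1 23 = 1 := by decide +kernel
  rw [e0, zpow_one]

theorem x_inj {r : ℕ} (hr : r < (D4).nroots) {t u : K} (h : x r t = x r u) : t = u :=
  xg_inj _ (X4).rc hr h

end H41.Td8
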