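import Cfsg.Agent.Lib.H41.Td8
import Cfsg.Agent.Lib.H41.Td5
import Cfsg.Agent.Lib.H4.Integral

/-!
The smallest degree of a nontrivial irreducible representation of `³D₄(q)`.
-/

set_option autoImplicit false
set_option linter.unusedSectionVars false

namespace H41.Td9

open H22.ChevRel H22.ChevSys H22.ChevStd H22.RCCheck H22.Coord H41.Td6 H41.Td7 H41.Td8 H41.Td1 H41.Td3
open Cfsg.Lie (ChevalleyDatum)
open scoped MatrixGroups Matrix

local notation "D4" => Cfsg.Lie.chevD4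

variable {K : Type*} [Field K] {q : ℕ} (φ : K →+* K) (hφ : ∀ t, φ t = t ^ q)

theorem mem_word (w : List (ℕ × K)) (hw : w ∈ Cfsg.Lie.d4Words K q) :
    wg (H22.TwD4.RR K) w ∈ Cfsg.Lie.twistedD4 K q :=
  Subgroup.subset_closure ⟨w, hw, wg_val _ w⟩

include hφ

theorem memB {t : K} (ht : φ t = t) : x 14 t ∈ Cfsg.Lie.twistedD4 K q := by
  have h := mem_word (q := q) [(14, t)] (Or.inl ⟨t, by rw [← hφ]; exact ht, 14, List.mem_cons_self, rfl⟩)
  simpa [wg, x] using h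

theorem memN {t : K} (ht : φ t = t) : x 9 t ∈ Cfsg.Lie.twistedD4 K q := by
  have h := mem_word (q := q) [(9, t)] (Or.inl ⟨t, by rw [← hφ]; exact ht, 9,
    List.mem_cons_of_mem _ List.mem_cons_self, rfl⟩)
  simpa [wg, x] using h

theorem phi2 (t : K) : φ (φ t) = t ^ q ^ 2 := by rw [hφ, hφ, ← pow_mul, pow_two]

theorem memG (t : K) : eG φ t ∈ Cfsg.Lie.twistedD4 K q := by
  have h := mem_word (q := q) [(18, t), (13, t ^ q), (12, t ^ q ^ 2)] (Or.inr ⟨t, _, List.mem_cons_self, rfl⟩)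
  unfold eG
  rw [phi2 φ hφ, hφ]
  simpa [wg, x, mul_assoc] using h

theorem memM (t : K) : eM φ t ∈ Cfsg.Lie.twistedD4 K q := by
  have h := mem_word (q := q) [(5, t), (10, t ^ q), (11, t ^ q ^ 2)] (Or.inr ⟨t, _,
    List.mem_cons_of_mem _ List.mem_cons_self, rfl⟩)
  unfold eM
  rw [phi2 φ hφ, hφ]
  simpa [wg, x, mul_assoc] using h

theorem mem_nB : nr K 14 ∈ Cfsg.Lie.twistedD4 K q :=
  mul_mem (mul_mem (memB φ hφ (map_one φ)) (memN φ hφ (by rw [map_neg, map_one])))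
    (memB φ hφ (map_one φ))

theorem mem_nG : nG K ∈ Cfsg.Lie.twistedD4 K q := by
  rw [nG_eq φ]
  exact mul_mem (mul_mem (memG φ hφ _) (memM φ hφ _)) (memG φ hφ _)

theorem memA {t : K} (ht : φ t = t) : x 22 t ∈ Cfsg.Lie.twistedD4 K q := by
  have h := nG_B (-t)
  rw [neg_neg] at h
  rw [← h]
  exact mul_mem (mul_mem (mem_nG φ hφ) (memB φ hφ (by rw [map_neg, ht]))) (inv_mem (mem_nG φ hφ))

theorem memR {t : K} (ht : φ t = t) : x 23 t ∈ Cfsg.Lie.twistedD4 K q := by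
  rw [← nB_A]
  exact mul_mem (mul_mem (mem_nB φ hφ) (memA φ hφ ht)) (inv_mem (mem_nB φ hφ))

theorem memW (t : K) : eW φ t ∈ Cfsg.Lie.twistedD4 K q := by
  rw [← nB_G]
  exact mul_mem (mul_mem (mem_nB φ hφ) (memG φ hφ t)) (inv_mem (mem_nB φ hφ))

theorem mem_hB {c : K} (hc : φ c = c) : hs (H22.TwD4.RR K) 1 c ∈ Cfsg.Lie.twistedD4 K q := by
  rw [hs_eq (i := 1) (r := 14) rfl]
  have e1 : (D4).neg 14 = 9 := rfl
  rw [e1]
  have h1 : φ (-c⁻¹) = -c⁻¹ := by rw [map_neg, map_inv₀, hc]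
  have h2 : φ (-1) = -1 := by rw [map_neg, map_one]
  exact mul_mem (mul_mem (mul_mem (memB φ hφ hc) (memN φ hφ h1)) (memB φ hφ hc))
    (mul_mem (mul_mem (memB φ hφ h2) (memN φ hφ (map_one φ))) (memB φ hφ h2))

theorem mem_hG (t : K) : hG φ t ∈ Cfsg.Lie.twistedD4 K q := by
  rw [hG_eq]
  exact mul_mem (mul_mem (mul_mem (memG φ hφ _) (memM φ hφ _)) (memG φ hφ _))
    (mul_mem (mul_mem (memG φ hφ _) (memM φ hφ _)) (memG φ hφ _))

/-- generation -/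
theorem gen_aux (L : Subgroup ↥(Cfsg.Lie.twistedD4 K q))
    (h1 : ∀ t, φ t = t → ∀ hm, (⟨x 14 t, hm⟩ : ↥(Cfsg.Lie.twistedD4 K q)) ∈ L)
    (h2 : ∀ t, φ t = t → ∀ hm, (⟨x 9 t, hm⟩ : ↥(Cfsg.Lie.twistedD4 K q)) ∈ L)
    (h3 : ∀ t hm, (⟨eG φ t, hm⟩ : ↥(Cfsg.Lie.twistedD4 K q)) ∈ L)
    (h4 : ∀ t hm, (⟨eM φ t, hm⟩ : ↥(Cfsg.Lie.twistedD4 K q)) ∈ L) :
    ∀ g (hg : g ∈ Cfsg.Lie.twistedD4 K q), (⟨g, hg⟩ : ↥(Cfsg.Lie.twistedD4 K q)) ∈ L := by
  intro g hg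
  refine Subgroup.closure_induction (p := fun g hg => (⟨g, hg⟩ : ↥(Cfsg.Lie.twistedD4 K q)) ∈ L)
    ?_ ?_ ?_ ?_ hg
  · rintro g ⟨w, hw, hgw⟩
    have hg' : g = wg (H22.TwD4.RR K) w := Units.ext (hgw.trans (wg_val _ w).symm)
    rcases hw with ⟨t, ht, r, hr, rfl⟩ | ⟨t, rs, hrs, rfl⟩
    · rw [← hφ] at ht
      simp only [List.mem_cons, List.not_mem_nil, or_false] at hr
      rcases hr with rfl | rfl
      · have e : g = x 14 t := by rw [hg']; simp [wg, x, Cfsg.Lie.d4p2]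
        subst e
        exact h1 t ht _
      · have e : g = x 9 t := by rw [hg']; simp [wg, x, Cfsg.Lie.d4m2]
        subst e
        exact h2 t ht _
    · simp only [List.mem_cons, List.not_mem_nil, or_false] at hrs
      rcases hrs with rfl | rfl
      · have e : g = eG φ t := by
          rw [hg']
          unfold eG
          rw [phi2 φ hφ, hφ]
          simp [wg, x, mul_assoc, Cfsg.Lie.d4p1, Cfsg.Lie.d4p3, Cfsg.Lie.d4p4]
        subst e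
        exact h3 t _
      · have e : g = eM φ t := by
          rw [hg']
          unfold eM
          rw [phi2 φ hφ, hφ]
          simp [wg, x, mul_assoc, Cfsg.Lie.d4m1, Cfsg.Lie.d4m3, Cfsg.Lie.d4m4]
        subst e
        exact h4 t _
  · exact one_mem _
  · intro a b ha hb h h'
    exact mul_mem h h'
  · intro a ha h
    exact inv_mem h

variable (h3 : ∀ t : K, φ (φ (φ t)) = t)

include h3

theorem norm_fix (t : K) : φ (t * φ t * φ (φ t)) = t * φ t * φ (φ t) := by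
  simp only [map_mul, h3]; ring

theorem memU (t : K) : eU φ t ∈ Cfsg.Lie.twistedD4 K q := by
  have h := conjM φ h3 t 1 (map_one φ)
  have hn := norm_fix φ hφ h3 t
  have m1 : x 14 (-1 * (1 * (t * φ t * φ (φ t)))) ∈ Cfsg.Lie.twistedD4 K q :=
    memB φ hφ (by simp only [map_mul, map_neg, map_one, h3]; ring)
  have m2 : x 23 (-1 * (1 * 1 * (t * φ t * φ (φ t)))) ∈ Cfsg.Lie.twistedD4 K q :=
    memR φ hφ (by simp only [map_mul, map_neg, map_one, h3]; ring)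
  have m3 : x 22 (1 : K) ∈ Cfsg.Lie.twistedD4 K q := memA φ hφ (map_one φ)
  have m4 : eM φ t * x 22 1 * (eM φ t)⁻¹ ∈ Cfsg.Lie.twistedD4 K q :=
    mul_mem (mul_mem (memM φ hφ t) m3) (inv_mem (memM φ hφ t))
  rw [h, one_mul t] at m4
  have m5 := (Subgroup.mul_mem_cancel_right _ m2).1 m4
  have m6 := (Subgroup.mul_mem_cancel_right _ m3).1 m5
  exact (Subgroup.mul_mem_cancel_left _ (mul_mem m1 (memW φ hφ _))).1 m6

variable [Finite K] (hq : 1 < q) (hK : Nat.card K = q ^ 3) (hF : Nat.card (Fx φ) = q)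

include hq hK hF

/-- the package -/
noncomputable def pkg : Pkg φ ↥(Cfsg.Lie.twistedD4 K q) where
  xB b := ⟨x 14 b, memB φ hφ b.2⟩
  xN b := ⟨x 9 b, memN φ hφ b.2⟩
  xA b := ⟨x 22 b, memA φ hφ b.2⟩
  xR b := ⟨x 23 b, memR φ hφ b.2⟩
  xW t := ⟨eW φ t, memW φ hφ t⟩
  xU t := ⟨eU φ t, memU φ hφ h3 t⟩
  xG t := ⟨eG φ t, memG φ hφ t⟩
  xM t := ⟨eM φ t, memM φ hφ t⟩
  nb := ⟨nr K 14, mem_nB φ hφ⟩
  ng := ⟨nG K, mem_nG φ hφ⟩
  N t := ⟨t * φ t * φ (φ t), norm_fix φ hφ h3 t⟩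
  N_eq t := rfl
  eAB := -1
  eUW := -1
  e1 := 1
  e2 := 1
  e3 := -1
  hAB := neg_ne_zero.2 one_ne_zero
  hUW := neg_ne_zero.2 one_ne_zero
  h3 := neg_ne_zero.2 one_ne_zero
  addB s t := Subtype.ext (x_add _ _ _)
  addA s t := Subtype.ext (x_add _ _ _)
  addR s t := Subtype.ext (x_add _ _ _)
  addW s t := Subtype.ext (eW_add φ s t)
  addU s t := Subtype.ext (eU_add φ s t)
  cBW b w := Subtype.ext (cBW φ _ _)
  cBU b w := Subtype.ext (cBU φ _ _)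
  cAW b w := Subtype.ext (cAW φ _ _)
  cAU b w := Subtype.ext (cAU φ _ _)
  cRB b w := Subtype.ext (cRB _ _)
  cRA b w := Subtype.ext (cRA _ _)
  cRW b w := Subtype.ext (cRW φ _ _)
  cRU b w := Subtype.ext (cRU φ _ _)
  cRM b w := Subtype.ext (cRM φ _ _)
  cRG b w := Subtype.ext (cRG φ _ _)
  cAG b w := Subtype.ext (cAG φ _ _)
  cAB a b := Subtype.ext (cAB _ _)
  cUW u w := Subtype.ext (by
    have h := cUW φ u w
    rw [← Tr_eq hq hK hF hφ] at h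
    exact h)
  conj t a := ⟨⟨-1 * (a * a * (t * φ t * φ (φ t))), by
    rw [mem_Fx]
    have ha : φ a = a := a.2
    simp only [map_mul, map_neg, map_one, ha, h3]; ring⟩, Subtype.ext (by
      have h := conjM φ h3 t a a.2
      have e1 : (((-1 : Fx φ) * (a * ⟨t * φ t * φ (φ t), norm_fix φ hφ h3 t⟩) : Fx φ) : K) =
        -1 * (a * (t * φ t * φ (φ t))) := rfl
      have e2 : (((1 : Fx φ) : K) * ((a : K) * (φ t * φ (φ t)))) = a * (φ t * φ (φ t)) := one_mul _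
      have e3 : (((1 : Fx φ) : K) * ((a : K) * t)) = a * t := one_mul _
      change eM φ t * x 22 (a : K) * (eM φ t)⁻¹ = x 14 _ * eW φ _ * eU φ _ * x 22 _ * x 23 _
      rw [e2, e3]
      exact h)⟩
  nbA a := ⟨-a, Subtype.ext (conj_to (by
    change nr K 14 * x 23 (-(a : K)) * (nr K 14)⁻¹ = _
    rw [nB_R, neg_neg]))⟩
  nbR a := ⟨a, Subtype.ext (conj_to (nB_A _))⟩
  nbN a := ⟨-a, Subtype.ext (conj_to (by
    change nr K 14 * x 14 (-(a : K)) * (nr K 14)⁻¹ = _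
    rw [own14, neg_neg]))⟩
  ngA a := ⟨-a, Subtype.ext (conj_to (by
    change nG K * x 14 (-(a : K)) * (nG K)⁻¹ = _
    rw [nG_B, neg_neg]))⟩
  ngB a := ⟨a, Subtype.ext (conj_to (nG_A _))⟩
  ngR a := ⟨a, Subtype.ext (conj_to (nG_R _))⟩
  ngM t := ⟨-t, Subtype.ext (conj_to (by
    change nG K * eG φ (-t) * (nG K)⁻¹ = _
    rw [nG_G, neg_neg]))⟩
  tR c hc := ⟨⟨hs (H22.TwD4.RR K) 1 c, mem_hB φ hφ c.2⟩, fun a => Subtype.ext (by
    have hc' : (c : K) ≠ 0 := fun h => hc (Subtype.ext h)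
    exact (conj_to (hB23 hc' (a : K))).symm)⟩
  tB c hc := by
    obtain ⟨t, ht⟩ := norm_surj (φ := φ) c⁻¹
    have hn := norm_eq hq hK hF hφ t
    rw [ht] at hn
    have ht0 : t ≠ 0 := by
      rintro rfl
      rw [zero_mul, zero_mul] at hn
      exact (inv_ne_zero hc) (Subtype.ext hn)
    have hn' : (t * φ t * φ (φ t))⁻¹ = c := by
      rw [← hn]
      push_cast
      rw [inv_inv]
    refine ⟨⟨hG φ t, mem_hG φ hφ t⟩, fun a => Subtype.ext ?_, fun a => ⟨c * a, Subtype.ext ?_⟩,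
      fun a => ⟨a, Subtype.ext ?_⟩⟩
    · have := conj_to (hG14 φ ht0 (a : K))
      rw [hn'] at this
      exact this
    · have := conj_to (hG22 φ ht0 ((c : K) * a))
      rw [← hn'] at this
      have h0 : t * φ t * φ (φ t) ≠ 0 := by
        intro h
        rw [h, inv_zero] at hn'
        exact hc (Subtype.ext hn'.symm)
      rw [mul_inv_cancel_left₀ h0, hn'] at this
      exact this
    · exact conj_to (hG23 φ ht0 (a : K))
  gen := by
    rw [eq_top_iff]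
    rintro ⟨g, hg⟩ -
    refine gen_aux φ hφ _ (fun t ht hm => ?_) (fun t ht hm => ?_) (fun t hm => ?_) (fun t hm => ?_) g hg
    · exact Subgroup.subset_closure (Or.inl (Or.inl (Or.inl ⟨⟨t, ht⟩, rfl⟩)))
    · exact Subgroup.subset_closure (Or.inl (Or.inl (Or.inr ⟨⟨t, ht⟩, rfl⟩)))
    · exact Subgroup.subset_closure (Or.inl (Or.inr ⟨t, rfl⟩))
    · exact Subgroup.subset_closure (Or.inr ⟨t, rfl⟩)
  injR a h := Subtype.ext (x_inj (r := 23) (by decide) ((congrArg Subtype.val h).trans (x_zero' 23).symm))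

omit hφ h3 hq hK hF in
/-- arithmetic -/
theorem arith {q : ℕ} (hq : 1 < q) : ¬ (q - 1) * (q ^ 4 + q ^ 3 + 1) ∣
    q ^ 12 * (q ^ 2 - 1) * (q ^ 6 - 1) * (q ^ 8 + q ^ 4 + 1) := by
  intro h
  obtain ⟨n, rfl⟩ : ∃ n, q = n + 1 := ⟨q - 1, by omega⟩
  have hn : 0 < n := by omega
  have e1 : (n + 1) ^ 2 - 1 = n * (n + 2) := by
    apply Nat.sub_eq_of_eq_add; ring
  have e2 : (n + 1) ^ 6 - 1 = n * (n + 2) * ((n + 1) ^ 2 + (n + 1) + 1) * (n ^ 2 + n + 1) := by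
    apply Nat.sub_eq_of_eq_add; ring
  have e3 : (n + 1) ^ 8 + (n + 1) ^ 4 + 1 = ((n + 1) ^ 2 + (n + 1) + 1) * (n ^ 2 + n + 1) *
      (n ^ 4 + 4 * n ^ 3 + 5 * n ^ 2 + 2 * n + 1) := by ring
  rw [e1, e2, e3, Nat.add_sub_cancel] at h
  set N := (n + 1) ^ 4 + (n + 1) ^ 3 + 1 with hN
  have h1 : N ∣ (n + 1) ^ 12 * ((n + 2) ^ 2 * ((n ^ 2 + n + 1) ^ 2 *
      ((n ^ 4 + 4 * n ^ 3 + 5 * n ^ 2 + 2 * n + 1) * (n * ((n + 1) ^ 2 + (n + 1) + 1) ^ 2)))) := by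
    apply Nat.dvd_of_mul_dvd_mul_left hn
    refine h.trans (dvd_of_eq ?_)
    ring
  have cop : ∀ (m : ℕ) (u v : ℤ), u * (N : ℤ) + v * (m : ℤ) = 1 → Nat.Coprime N m := by
    intro m u v h
    rw [← Nat.isCoprime_iff_coprime]
    exact ⟨u, v, h⟩
  have c1 : Nat.Coprime N (n + 1) := by
    refine cop _ 1 (-((n + 1 : ℤ) ^ 3 + (n + 1) ^ 2)) ?_
    rw [hN]; push_cast; ring
  have c2 : Nat.Coprime N (n + 2) := by
    refine cop _ 1 (-((n + 1 : ℤ) ^ 3)) ?_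
    rw [hN]; push_cast; ring
  have c3 : Nat.Coprime N (n ^ 2 + n + 1) := by
    -- `q² - q + 1 = n² + n + 1`
    refine cop _ (-(1 - (n + 1 : ℤ))) (1 + ((n + 1 : ℤ) ^ 2 + 2 * (n + 1) + 1) * (1 - (n + 1 : ℤ))) ?_
    rw [hN]; push_cast; ring
  have c4 : Nat.Coprime N (n ^ 4 + 4 * n ^ 3 + 5 * n ^ 2 + 2 * n + 1) := by
    have c5 : Nat.Coprime N ((n + 1) ^ 2 * (n + 2)) := Nat.Coprime.mul_right (c1.pow_right 2) c2
    have e4 : N = (n ^ 4 + 4 * n ^ 3 + 5 * n ^ 2 + 2 * n + 1) + (n + 1) ^ 2 * (n + 2) := by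
      rw [hN]; ring
    rw [Nat.coprime_comm] at c5 ⊢
    rw [e4] at c5 ⊢
    have c6 : Nat.Coprime ((n + 1) ^ 2 * (n + 2)) (n ^ 4 + 4 * n ^ 3 + 5 * n ^ 2 + 2 * n + 1) := by
      rwa [Nat.coprime_add_self_right] at c5
    rw [Nat.coprime_self_add_right]
    exact c6.symm
  have h2 := (c1.pow_right 12).dvd_of_dvd_mul_left h1
  have h3 := (c2.pow_right 2).dvd_of_dvd_mul_left h2
  have h4 := (c3.pow_right 2).dvd_of_dvd_mul_left h3
  have h5 := c4.dvd_of_dvd_mul_left h4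
  have g1 : Nat.gcd N n ∣ 3 := by
    have a1 : (Nat.gcd N n) ∣ N := Nat.gcd_dvd_left _ _
    have a2 : (Nat.gcd N n) ∣ n := Nat.gcd_dvd_right _ _
    have a3 : N = n * (n ^ 3 + 5 * n ^ 2 + 9 * n + 7) + 3 := by rw [hN]; ring
    have a4 : (Nat.gcd N n) ∣ n * (n ^ 3 + 5 * n ^ 2 + 9 * n + 7) + 3 := by rw [← a3]; exact a1
    exact (Nat.dvd_add_right (Dvd.dvd.mul_right a2 _)).1 a4
  have g2 : Nat.gcd N ((n + 1) ^ 2 + (n + 1) + 1) ∣ 3 := by
    set T := (n + 1) ^ 2 + (n + 1) + 1 with hT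
    have a1 : (Nat.gcd N T) ∣ N := Nat.gcd_dvd_left _ _
    have a2 : (Nat.gcd N T) ∣ T := Nat.gcd_dvd_right _ _
    have a3 : N = T * (n * (n + 2)) + (n + 3) := by rw [hN, hT]; ring
    have a4 : (Nat.gcd N T) ∣ T * (n * (n + 2)) + (n + 3) := by rw [← a3]; exact a1
    have a5 : (Nat.gcd N T) ∣ n + 3 := (Nat.dvd_add_right (Dvd.dvd.mul_right a2 _)).1 a4
    have a6 : T = (n + 3) * n + 3 := by rw [hT]; ring
    have a7 : (Nat.gcd N T) ∣ (n + 3) * n + 3 := by rw [← a6]; exact a2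
    exact (Nat.dvd_add_right (Dvd.dvd.mul_right a5 _)).1 a7
  have h6 : N ∣ 27 := by
    have k1 := Nat.gcd_mul_right_dvd_mul_gcd N n (((n + 1) ^ 2 + (n + 1) + 1) ^ 2)
    rw [Nat.gcd_eq_left h5, pow_two] at k1
    have k2 := Nat.gcd_mul_right_dvd_mul_gcd N ((n + 1) ^ 2 + (n + 1) + 1) ((n + 1) ^ 2 + (n + 1) + 1)
    exact k1.trans (Nat.mul_dvd_mul g1 (k2.trans (Nat.mul_dvd_mul g2 g2)))
  have h7 := Nat.le_of_dvd (by norm_num) h6
  rcases Nat.lt_or_ge n 2 with h8 | h8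
  · have : n = 1 := by omega
    subst this
    rw [hN] at h6
    norm_num at h6
  · have k1 : 3 ^ 4 ≤ (n + 1) ^ 4 := Nat.pow_le_pow_left (by omega) 4
    rw [hN] at h7
    omega

omit hφ h3 hq hK hF in
/-- the theorem -/
theorem final {K : Type*} [Field K] [Fintype K] (q : ℕ) (hq : IsPrimePow q)
    (hK : Fintype.card K = q ^ 3) (k : ℕ) (ρ : Representation ℂ (Cfsg.Lie.twistedD4 K q) (Fin k → ℂ))
    (hρ : ρ.IsIrreducible) (hk : 2 ≤ k) : q * (q ^ 4 - q ^ 2 + 1) ≤ k := by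
  have hq1 : 1 < q := hq.one_lt
  have hK' : Nat.card K = q ^ 3 := by rw [Nat.card_eq_fintype_card]; exact hK
  obtain ⟨φ, hφ, hφq⟩ := H22.TwAut.exists_frob hq (by norm_num : (3 : ℕ) ≠ 0) hK'
  have h3 : ∀ t : K, φ (φ (φ t)) = t := by
    intro t
    rw [hφq, hφq, hφq, ← pow_mul, ← pow_mul]
    have := FiniteField.pow_card t
    rwa [hK, show q ^ 3 = q * (q * q) by ring] at this
  have hF : Nat.card (Fx φ) = q := by
    have h : Nat.card {t : K // φ t = t} = q := by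
      simp only [hφq]
      exact H22.TwAut.card_fixed hq1 (by norm_num) hK'
    exact h
  have P := pkg φ hφq h3 hq1 hK' hF
  obtain ⟨hs, _⟩ := H22.TwD4.s1071 hq hK
  have hfr : Module.finrank ℂ (Fin k → ℂ) = k := by simp
  have hfaith : ∀ g, ρ g = 1 → g = 1 := by
    obtain ⟨g, hg⟩ := H44.LSIrr.exists_ne_one ρ hρ (by rw [hfr]; exact hk)
    rcases hs.eq_bot_or_eq_top_of_normal (MonoidHom.ker ρ) inferInstance with h | h
    · intro x hx
      have : x ∈ MonoidHom.ker ρ := hx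
      rw [h, Subgroup.mem_bot] at this
      exact this
    · exact absurd (show g ∈ MonoidHom.ker ρ by rw [h]; trivial) hg
  have hmain := H41.Td5.main (P := P) ρ hq1 hK' hF hφq h3 hfaith (by rw [hfr]; omega)
    ((H44.LSIrr.irr_iff ρ).1 hρ).2
  rw [hfr] at hmain
  rcases hmain with h | h
  · exact h
  · exfalso
    have : Finite ↥(Cfsg.Lie.twistedD4 K q) := inferInstance
    have h1 := H4.Integral.degree_dvd_card ρ hρ
    rw [hfr, H22.TwD4.s1067 hq hK, h] at h1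
    exact arith hq1 h1

end H41.Td9
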