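import Cfsg.Agent.Lib.H22.OctTits

/-! Identities for the elementary abelian subgroup of order 32 in the Tits group. -/

set_option autoImplicit false
set_option linter.unusedVariables false
set_option linter.unusedSectionVars false
set_option maxRecDepth 10000

namespace H41.Tt5

open H22.Oct H22.Col2 H22.RGD H22.TwDat

section

variable {K : Type*} [CommRing K] [CharP K 2] {G : Type*} [Group G] (x : ℕ → K → G) (ψ : K →+* K)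

/-- elements of the elementary abelian group -/
def e (c2 a3 c4 a5 c6 : K) : G := E x ψ 0 0 c2 a3 0 c4 a5 0 c6 0 0 0

theorem e_mul (h : Coll x okF ctF) (hψ : ∀ t, ψ (ψ t) = t ^ 2) (c2 a3 c4 a5 c6 d2 b3 d4 b5 d6 : K) :
    e x ψ c2 a3 c4 a5 c6 * e x ψ d2 b3 d4 b5 d6 = e x ψ (c2 + d2) (a3 + b3) (c4 + d4) (a5 + b5) (c6 + d6) :=
  refl21 h hψ [c2, a3, c4, a5, c6, d2, b3, d4, b5, d6] 10
    [(8, .z, .z), (9, .z, (.v 0)), (10, (.v 1), .z), (11, .z, (.v 2)), (12, (.v 3), .z), (13, .z, (.v 4)), (14, .z, .z), (15, .z, .z)]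
    [(8, .z, .z), (9, .z, (.v 5)), (10, (.v 6), .z), (11, .z, (.v 7)), (12, (.v 8), .z), (13, .z, (.v 9)), (14, .z, .z), (15, .z, .z)]
    [(8, .z, .z), (9, .z, (.add (.v 0) (.v 5))), (10, (.add (.v 1) (.v 6)), .z), (11, .z, (.add (.v 2) (.v 7))), (12, (.add (.v 3) (.v 8)), .z), (13, .z, (.add (.v 4) (.v 9))), (14, .z, .z), (15, .z, .z)] (by decide +kernel)

theorem e_8 (h : Coll x okF ctF) (hψ : ∀ t, ψ (ψ t) = t ^ 2) (c2 a3 c4 a5 c6 p : K) :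
    e x ψ c2 a3 c4 a5 c6 * Xc x ψ 8 p 0 = Xc x ψ 8 p 0 * e x ψ c2 a3 (c4 + c6 * p) a5 c6 :=
  refl2 h hψ [c2, a3, c4, a5, c6, p] 6
    [(8, .z, .z), (9, .z, (.v 0)), (10, (.v 1), .z), (11, .z, (.v 2)), (12, (.v 3), .z), (13, .z, (.v 4)), (14, .z, .z), (15, .z, .z)]
    [(8, (.v 5), .z)] [(8, (.v 5), .z)]
    [(8, .z, .z), (9, .z, (.v 0)), (10, (.v 1), .z), (11, .z, (.add (.v 2) (.mul (.v 4) (.v 5)))), (12, (.v 3), .z), (13, .z, (.v 4)), (14, .z, .z), (15, .z, .z)] (by decide +kernel)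

theorem e_14 (h : Coll x okF ctF) (hψ : ∀ t, ψ (ψ t) = t ^ 2) (c2 a3 c4 a5 c6 p : K) :
    e x ψ c2 a3 c4 a5 c6 * Xc x ψ 14 p 0 = Xc x ψ 14 p 0 * e x ψ c2 a3 (c4 + c2 * p) a5 c6 :=
  refl2 h hψ [c2, a3, c4, a5, c6, p] 6
    [(8, .z, .z), (9, .z, (.v 0)), (10, (.v 1), .z), (11, .z, (.v 2)), (12, (.v 3), .z), (13, .z, (.v 4)), (14, .z, .z), (15, .z, .z)]
    [(14, (.v 5), .z)] [(14, (.v 5), .z)]
    [(8, .z, .z), (9, .z, (.v 0)), (10, (.v 1), .z), (11, .z, (.add (.v 2) (.mul (.v 0) (.v 5)))), (12, (.v 3), .z), (13, .z, (.v 4)), (14, .z, .z), (15, .z, .z)] (by decide +kernel)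

theorem e_9 (h : Coll x okF ctF) (hψ : ∀ t, ψ (ψ t) = t ^ 2) (c2 a3 c4 a5 c6 p : K) :
    e x ψ c2 a3 c4 a5 c6 * Xc x ψ 9 p 0 = Xc x ψ 9 p 0 * e x ψ c2 a3 (c4 + a5 * p) a5 c6 :=
  refl2 h hψ [c2, a3, c4, a5, c6, p] 6
    [(8, .z, .z), (9, .z, (.v 0)), (10, (.v 1), .z), (11, .z, (.v 2)), (12, (.v 3), .z), (13, .z, (.v 4)), (14, .z, .z), (15, .z, .z)]
    [(9, (.v 5), .z)] [(9, (.v 5), .z)]
    [(8, .z, .z), (9, .z, (.v 0)), (10, (.v 1), .z), (11, .z, (.add (.v 2) (.mul (.v 3) (.v 5)))), (12, (.v 3), .z), (13, .z, (.v 4)), (14, .z, .z), (15, .z, .z)] (by decide +kernel)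

theorem e_13 (h : Coll x okF ctF) (hψ : ∀ t, ψ (ψ t) = t ^ 2) (c2 a3 c4 a5 c6 p : K) :
    e x ψ c2 a3 c4 a5 c6 * Xc x ψ 13 p 0 = Xc x ψ 13 p 0 * e x ψ c2 a3 (c4 + a3 * p) a5 c6 :=
  refl2 h hψ [c2, a3, c4, a5, c6, p] 6
    [(8, .z, .z), (9, .z, (.v 0)), (10, (.v 1), .z), (11, .z, (.v 2)), (12, (.v 3), .z), (13, .z, (.v 4)), (14, .z, .z), (15, .z, .z)]
    [(13, (.v 5), .z)] [(13, (.v 5), .z)]
    [(8, .z, .z), (9, .z, (.v 0)), (10, (.v 1), .z), (11, .z, (.add (.v 2) (.mul (.v 1) (.v 5)))), (12, (.v 3), .z), (13, .z, (.v 4)), (14, .z, .z), (15, .z, .z)] (by decide +kernel)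

theorem e_11 (h : Coll x okF ctF) (hψ : ∀ t, ψ (ψ t) = t ^ 2) (c2 a3 c4 a5 c6 p : K) :
    e x ψ c2 a3 c4 a5 c6 * Xc x ψ 11 p 0 = Xc x ψ 11 p 0 * e x ψ c2 a3 c4 a5 c6 :=
  refl2 h hψ [c2, a3, c4, a5, c6, p] 6
    [(8, .z, .z), (9, .z, (.v 0)), (10, (.v 1), .z), (11, .z, (.v 2)), (12, (.v 3), .z), (13, .z, (.v 4)), (14, .z, .z), (15, .z, .z)]
    [(11, (.v 5), .z)] [(11, (.v 5), .z)]
    [(8, .z, .z), (9, .z, (.v 0)), (10, (.v 1), .z), (11, .z, (.v 2)), (12, (.v 3), .z), (13, .z, (.v 4)), (14, .z, .z), (15, .z, .z)] (by decide +kernel)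

theorem e_prod (h : Coll x okF ctF) (hψ : ∀ t, ψ (ψ t) = t ^ 2) (c2 a3 c4 a5 c6 : K) :
    Xc x ψ 9 0 c2 * (Xc x ψ 10 a3 0 * (Xc x ψ 11 0 c4 * (Xc x ψ 12 a5 0 * Xc x ψ 13 0 c6))) = e x ψ c2 a3 c4 a5 c6 :=
  refl h hψ [c2, a3, c4, a5, c6] 5
    [(9, .z, (.v 0)), (10, (.v 1), .z), (11, .z, (.v 2)), (12, (.v 3), .z), (13, .z, (.v 4))]
    [(8, .z, .z), (9, .z, (.v 0)), (10, (.v 1), .z), (11, .z, (.v 2)), (12, (.v 3), .z), (13, .z, (.v 4)), (14, .z, .z), (15, .z, .z)] (by decide +kernel)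

theorem e_z (h : Coll x okF ctF) (hψ : ∀ t, ψ (ψ t) = t ^ 2) (c : K) : Xc x ψ 11 0 c = e x ψ 0 0 c 0 0 :=
  refl h hψ [c] 1 [(11, .z, (.v 0))]
    [(8, .z, .z), (9, .z, .z), (10, .z, .z), (11, .z, (.v 0)), (12, .z, .z), (13, .z, .z), (14, .z, .z), (15, .z, .z)] (by decide +kernel)

theorem e_z' (h : Coll x okF ctF) (hψ : ∀ t, ψ (ψ t) = t ^ 2) (c : K) : Xc x ψ 9 0 c = e x ψ c 0 0 0 0 :=
  refl h hψ [c] 1 [(9, .z, (.v 0))]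
    [(8, .z, .z), (9, .z, (.v 0)), (10, .z, .z), (11, .z, .z), (12, .z, .z), (13, .z, .z), (14, .z, .z), (15, .z, .z)] (by decide +kernel)

end

end H41.Tt5
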